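import Cfsg.Agent.Lib.Known.Solub.Structure

/-!
# Counting in `SL₂`

Normal forms, fibres over `PSL₂`, and the sizes of the sets which make up a solubilizer.
-/

set_option autoImplicit false
set_option linter.style.haveILetI false
set_option linter.unusedSectionVars false

namespace CfsgLib.Known.Solub

open Matrix Projectivization CfsgLib.Classical.Dickson
open scoped MatrixGroups LinearAlgebra.Projectivization

variable {F : Type*} [Field F] [Fintype F]

local notation "G2" => ProjectiveSpecialLinearGroup (Fin 2) F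
local notation "S2" => SpecialLinearGroup (Fin 2) F
local notation "π2" => QuotientGroup.mk (s := Subgroup.center (SpecialLinearGroup (Fin 2) F))

/-- Build a matrix of determinant one. -/
def mk2 (a b c d : F) (h : a * d - b * c = 1) : S2 :=
  ⟨!![a, b; c, d], by rw [Matrix.det_fin_two_of, h]⟩

@[simp] theorem mk2_00 (a b c d : F) (h : a * d - b * c = 1) : (mk2 a b c d h).1 0 0 = a := rfl
@[simp] theorem mk2_01 (a b c d : F) (h : a * d - b * c = 1) : (mk2 a b c d h).1 0 1 = b := rfl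
@[simp] theorem mk2_10 (a b c d : F) (h : a * d - b * c = 1) : (mk2 a b c d h).1 1 0 = c := rfl
@[simp] theorem mk2_11 (a b c d : F) (h : a * d - b * c = 1) : (mk2 a b c d h).1 1 1 = d := rfl

theorem ext2 {X Y : S2} (h00 : X.1 0 0 = Y.1 0 0) (h01 : X.1 0 1 = Y.1 0 1)
    (h10 : X.1 1 0 = Y.1 1 0) (h11 : X.1 1 1 = Y.1 1 1) : X = Y := by
  refine Subtype.ext (Matrix.ext fun i j => ?_)
  fin_cases i <;> fin_cases j <;> assumption

theorem det_eq (Y : S2) : Y.1 0 0 * Y.1 1 1 - Y.1 0 1 * Y.1 1 0 = 1 := by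
  rw [← Matrix.det_fin_two]; exact Y.2

theorem mul00 (X Y : S2) : (X * Y).1 0 0 = X.1 0 0 * Y.1 0 0 + X.1 0 1 * Y.1 1 0 := by
  simp [Matrix.mul_apply, Fin.sum_univ_two]
theorem mul01 (X Y : S2) : (X * Y).1 0 1 = X.1 0 0 * Y.1 0 1 + X.1 0 1 * Y.1 1 1 := by
  simp [Matrix.mul_apply, Fin.sum_univ_two]
theorem mul10 (X Y : S2) : (X * Y).1 1 0 = X.1 1 0 * Y.1 0 0 + X.1 1 1 * Y.1 1 0 := by
  simp [Matrix.mul_apply, Fin.sum_univ_two]
theorem mul11 (X Y : S2) : (X * Y).1 1 1 = X.1 1 0 * Y.1 0 1 + X.1 1 1 * Y.1 1 1 := by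
  simp [Matrix.mul_apply, Fin.sum_univ_two]

theorem inv_entries (X : S2) : (X⁻¹).1 0 0 = X.1 1 1 ∧ (X⁻¹).1 0 1 = -X.1 0 1 ∧
    (X⁻¹).1 1 0 = -X.1 1 0 ∧ (X⁻¹).1 1 1 = X.1 0 0 := by
  rw [Matrix.SpecialLinearGroup.coe_inv, Matrix.adjugate_fin_two]
  simp

/-- The trace. -/
def tr (Y : S2) : F := Y.1 0 0 + Y.1 1 1

/-! ### The centre and fibres -/

theorem center_eq {C : S2} (h : C ∈ Subgroup.center S2) : C = 1 ∨ C = -1 := by
  obtain ⟨r, hr, e⟩ := Matrix.SpecialLinearGroup.mem_center_iff.1 h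
  have e00 : C.1 0 0 = r := by rw [← e]; simp [Matrix.scalar_apply]
  have e01 : C.1 0 1 = 0 := by rw [← e]; simp [Matrix.scalar_apply]
  have e10 : C.1 1 0 = 0 := by rw [← e]; simp [Matrix.scalar_apply]
  have e11 : C.1 1 1 = r := by rw [← e]; simp [Matrix.scalar_apply]
  have hr' : r * r = 1 := by simpa [sq] using hr
  rcases mul_self_eq_one_iff.1 hr' with rfl | rfl
  · exact Or.inl (ext2 (by simp [e00]) (by simp [e01]) (by simp [e10]) (by simp [e11]))
  · exact Or.inr (ext2 (by simp [e00]) (by simp [e01]) (by simp [e10]) (by simp [e11]))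

theorem neg_mem_center : (-1 : S2) ∈ Subgroup.center S2 := by
  rw [Subgroup.mem_center_iff]
  intro g
  rw [mul_neg, neg_mul, one_mul, mul_one]

theorem mk_neg (Y : S2) : π2 (-Y) = π2 Y := by
  rw [QuotientGroup.eq, show (-Y)⁻¹ * Y = -1 by
    refine mul_left_cancel (a := -Y) ?_
    rw [mul_inv_cancel_left, mul_neg, mul_one, neg_neg]]
  exact neg_mem_center

theorem mk_eq {X Y : S2} : π2 X = π2 Y ↔ X = Y ∨ X = -Y := by
  constructor
  · intro h
    rw [QuotientGroup.eq] at h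
    rcases center_eq h with e | e
    · exact Or.inl (inv_mul_eq_one.1 e)
    · rw [inv_mul_eq_iff_eq_mul, mul_neg, mul_one] at e
      exact Or.inr (by rw [e, neg_neg])
  · rintro (rfl | rfl)
    · rfl
    · exact mk_neg Y

theorem mk_eq_one {X : S2} : π2 X = 1 ↔ X = 1 ∨ X = -1 := by
  rw [← QuotientGroup.mk_one, mk_eq]

theorem mk_mul (X Y : S2) : π2 (X * Y) = π2 X * π2 Y := rfl

theorem mk_inv (X : S2) : π2 X⁻¹ = (π2 X)⁻¹ := rfl

theorem card_fibres {q : ℕ} (hF : Fintype.card F = q) (P : G2 → Prop) :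
    Nat.card {Y : S2 // P (π2 Y)} = Nat.gcd 2 (q - 1) * Nat.card {y : G2 // P y} := by
  rw [show Nat.card {Y : S2 // P (π2 Y)} =
      Nat.card ↥(π2 ⁻¹' {y | P y}) from rfl,
    Nat.card_congr (QuotientGroup.preimageMkEquivSubgroupProdSet _ _), Nat.card_prod,
    CfsgLib.Classical.card_center_SL, Fintype.card_fin, Nat.card_units, Nat.card_eq_fintype_card, hF]
  rfl

/-- The solubilizer. -/
def Sol {G : Type*} [Group G] (x y : G) : Prop :=
  Group.IsSolvable ↥(Subgroup.closure ({x, y} : Set G))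

theorem card_sol_conj (g x : G2) :
    Nat.card {y : G2 // Sol (g * x * g⁻¹) y} = Nat.card {y : G2 // Sol x y} := by
  refine (Nat.card_congr (Equiv.subtypeEquiv (MulAut.conj g).toEquiv fun y => ?_)).symm
  have e : (Subgroup.closure ({x, y} : Set G2)).map (MulAut.conj g).toMonoidHom =
      Subgroup.closure {g * x * g⁻¹, g * y * g⁻¹} := by
    rw [MonoidHom.map_closure]; simp [Set.image_pair]
  have e' : ↥(Subgroup.closure ({x, y} : Set G2)) ≃*
      ↥(Subgroup.closure ({g * x * g⁻¹, g * y * g⁻¹} : Set G2)) :=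
    (Subgroup.equivMapOfInjective _ _ (MulAut.conj g).injective).trans (MulEquiv.subgroupCongr e)
  refine ⟨fun h => ?_, fun h => ?_⟩
  · haveI : Group.IsSolvable ↥(Subgroup.closure ({x, y} : Set G2)) := h
    exact Group.isSolvable_of_surjective (f := e'.toMonoidHom) e'.surjective
  · haveI : Group.IsSolvable
      ↥(Subgroup.closure ({g * x * g⁻¹, g * y * g⁻¹} : Set G2)) := h
    exact Group.isSolvable_of_surjective (f := e'.symm.toMonoidHom) e'.symm.surjective

/-! ### Eigenvectors and normal forms -/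

/-- There is an eigenvector. -/
def HasEigen (X : S2) : Prop :=
  ∃ v : Fin 2 → F, v ≠ 0 ∧ ∃ a : F, X.1.mulVec v = a • v

theorem eigen_entries {X : S2} {v : Fin 2 → F} {a : F} (h : X.1.mulVec v = a • v) :
    X.1 0 0 * v 0 + X.1 0 1 * v 1 = a * v 0 ∧ X.1 1 0 * v 0 + X.1 1 1 * v 1 = a * v 1 := by
  constructor
  · simpa [Matrix.mulVec, dotProduct, Fin.sum_univ_two] using congrFun h 0
  · simpa [Matrix.mulVec, dotProduct, Fin.sum_univ_two] using congrFun h 1

theorem root_of_eigen {X : S2} (h : HasEigen X) : ∃ a : F, a * a - tr X * a + 1 = 0 := by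
  obtain ⟨v, hv, a, ha⟩ := h
  obtain ⟨e0, e1⟩ := eigen_entries ha
  have hd := det_eq X
  refine ⟨a, ?_⟩
  have k0 : (a * a - tr X * a + 1) * v 0 = 0 := by
    unfold tr
    linear_combination (X.1 1 1 - a) * e0 - X.1 0 1 * e1 - v 0 * hd
  have k1 : (a * a - tr X * a + 1) * v 1 = 0 := by
    unfold tr
    linear_combination (X.1 0 0 - a) * e1 - X.1 1 0 * e0 - v 1 * hd
  by_contra hne
  refine hv (funext fun i => ?_)
  fin_cases i
  · exact (mul_eq_zero.1 k0).resolve_left hne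
  · exact (mul_eq_zero.1 k1).resolve_left hne

theorem eigen_of_root {X : S2} {a : F} (h : a * a - tr X * a + 1 = 0) : HasEigen X := by
  have hd := det_eq X
  unfold tr at h
  by_cases hb : X.1 0 1 = 0
  · refine ⟨![0, 1], fun e => one_ne_zero (congrFun e 1), X.1 1 1, funext fun i => ?_⟩
    fin_cases i <;> simp [Matrix.mulVec, dotProduct, Fin.sum_univ_two, hb]
  · refine ⟨![X.1 0 1, a - X.1 0 0], fun e => hb (congrFun e 0), a, funext fun i => ?_⟩
    fin_cases i <;> simp [Matrix.mulVec, dotProduct, Fin.sum_univ_two]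
    · ring
    · linear_combination -h - hd

theorem exists_frame {v : Fin 2 → F} (hv : v ≠ 0) :
    ∃ P : S2, P.1 1 0 * v 0 + P.1 1 1 * v 1 = 0 ∧ (P⁻¹.1 0 0 = v 0 ∧ P⁻¹.1 1 0 = v 1) := by
  by_cases h0 : v 0 = 0
  · have h1 : v 1 ≠ 0 := fun e => hv (funext fun i => by fin_cases i <;> assumption)
    refine ⟨mk2 0 (v 1)⁻¹ (-v 1) 0 (by field_simp; ring), by simp [mk2, h0], ?_⟩
    obtain ⟨i0, -, i2, -⟩ := inv_entries (mk2 0 (v 1)⁻¹ (-v 1) 0 (by field_simp; ring))
    rw [i0, i2]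
    simp [mk2, h0]
  · refine ⟨mk2 (v 0)⁻¹ 0 (-v 1) (v 0) (by field_simp; ring), by simp [mk2]; ring, ?_⟩
    obtain ⟨i0, -, i2, -⟩ := inv_entries (mk2 (v 0)⁻¹ 0 (-v 1) (v 0) (by field_simp; ring))
    rw [i0, i2]
    simp [mk2]

theorem exists_upper {X : S2} (h : HasEigen X) : ∃ P : S2, (P * X * P⁻¹).1 1 0 = 0 := by
  obtain ⟨v, hv, a, ha⟩ := h
  obtain ⟨e0, e1⟩ := eigen_entries ha
  obtain ⟨P, p10, p11⟩ := exists_frame hv
  refine ⟨P, ?_⟩
  rw [mul10, mul10, mul11, p11.1, p11.2]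
  linear_combination P.1 1 0 * e0 + P.1 1 1 * e1 + a * p10

theorem exists_diag {X : S2} (h : X.1 1 0 = 0) (hne : X.1 0 0 ≠ X.1 1 1) :
    ∃ P : S2, (P * X * P⁻¹).1 1 0 = 0 ∧ (P * X * P⁻¹).1 0 1 = 0 ∧
      (P * X * P⁻¹).1 0 0 = X.1 0 0 ∧ (P * X * P⁻¹).1 1 1 = X.1 1 1 := by
  set w := X.1 0 1 / (X.1 0 0 - X.1 1 1) with hw
  refine ⟨mk2 1 w 0 1 (by ring), ?_⟩
  obtain ⟨i0, i1, i2, i3⟩ := inv_entries (mk2 1 w 0 1 (by ring))
  have hne' : X.1 0 0 - X.1 1 1 ≠ 0 := sub_ne_zero.2 hne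
  refine ⟨?_, ?_, ?_, ?_⟩ <;>
    simp only [mul00, mul01, mul10, mul11, i0, i1, i2, i3] <;> simp [mk2, h]
  rw [hw]; field_simp; ring

theorem solvable_upper {X Y : S2} (hX : X.1 1 0 = 0) (hY : Y.1 1 0 = 0) :
    Sol (π2 X) (π2 Y) := by
  let B : Subgroup S2 :=
    { carrier := {Z | Z.1 1 0 = 0}
      one_mem' := by simp
      mul_mem' := fun {Z W} hZ hW => by
        simp only [Set.mem_ofPred_eq] at hZ hW ⊢
        rw [mul10, hZ, hW]; ring
      inv_mem' := fun {Z} hZ => by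
        simp only [Set.mem_ofPred_eq] at hZ ⊢
        rw [(inv_entries Z).2.2.1, hZ, neg_zero] }
  let χ : B →* F :=
    { toFun := fun Z => Z.1.1 0 0
      map_one' := by simp
      map_mul' := fun Z W => by
        show ((Z : S2) * (W : S2)).1 0 0 = _
        rw [mul00, show (W : S2).1 1 0 = 0 from W.2, mul_zero, add_zero] }
  haveI : Group.IsSolvable ↥χ.toHomUnits.ker := by
    refine Group.isSolvable_of_comm fun a b => Subtype.ext (Subtype.ext ?_)
    have key : ∀ Z : χ.toHomUnits.ker, ((Z : B) : S2).1 0 0 = 1 ∧ ((Z : B) : S2).1 1 1 = 1 := by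
      intro Z
      have h0 : ((Z : B) : S2).1 0 0 = 1 := congrArg Units.val (MonoidHom.mem_ker.1 Z.2)
      have hd := det_eq ((Z : B) : S2)
      rw [h0, show ((Z : B) : S2).1 1 0 = 0 from (Z : B).2] at hd
      exact ⟨h0, by simpa using hd⟩
    show ((a : B) : S2) * ((b : B) : S2) = ((b : B) : S2) * ((a : B) : S2)
    have ha : ((a : B) : S2).1 1 0 = 0 := (a : B).2
    have hb : ((b : B) : S2).1 1 0 = 0 := (b : B).2
    obtain ⟨a0, a1⟩ := key a
    obtain ⟨b0, b1⟩ := key b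
    refine ext2 ?_ ?_ ?_ ?_ <;> simp only [mul00, mul01, mul10, mul11, a0, a1, b0, b1, ha, hb] <;>
      ring
  haveI : Group.IsSolvable ↥B :=
    Group.isSolvable_of_ker_le_range χ.toHomUnits.ker.subtype χ.toHomUnits
      (by rw [Subgroup.range_subtype])
  set M := B.map (QuotientGroup.mk' (Subgroup.center S2))
  haveI : Group.IsSolvable ↥M :=
    Group.isSolvable_of_surjective
      ((QuotientGroup.mk' (Subgroup.center S2)).subgroupMap_surjective B)
  have hle : Subgroup.closure ({π2 X, π2 Y} : Set G2) ≤ M := by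
    refine (Subgroup.closure_le _).2 ?_
    rintro z (rfl | rfl)
    exacts [⟨X, hX, rfl⟩, ⟨Y, hY, rfl⟩]
  exact Group.isSolvable_of_isSolvable_injective (Subgroup.inclusion_injective hle)

/-! ### Counting -/

theorem card_nonzero : Nat.card {c : F // c ≠ 0} = Fintype.card F - 1 := by
  rw [← Nat.card_eq_fintype_card, ← Nat.card_units]
  exact Nat.card_congr unitsEquivNeZero.symm

theorem ncard_upper : {Y : S2 | Y.1 1 0 = 0}.ncard =
    (Fintype.card F - 1) * Fintype.card F := by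
  rw [← Nat.card_coe_set_eq, ← card_nonzero, ← Nat.card_eq_fintype_card, ← Nat.card_prod]
  have key : ∀ Y : ↥{Y : S2 | Y.1 1 0 = 0}, Y.1.1 0 0 * Y.1.1 1 1 = 1 := fun Y => by
    have := det_eq Y.1
    rwa [show Y.1.1 1 0 = 0 from Y.2, mul_zero, sub_zero] at this
  refine Nat.card_congr
    { toFun := fun Y => (⟨Y.1.1 0 0, left_ne_zero_of_mul_eq_one (key Y)⟩, Y.1.1 0 1)
      invFun := fun p => ⟨mk2 p.1.1 p.2 0 p.1.1⁻¹ (by rw [mul_inv_cancel₀ p.1.2]; ring), rfl⟩
      left_inv := fun Y => Subtype.ext (ext2 rfl rfl (by simpa [mk2] using Y.2.symm) ?_)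
      right_inv := fun p => rfl }
  simpa [mk2] using inv_eq_of_mul_eq_one_right (key Y)

theorem ncard_lower : {Y : S2 | Y.1 0 1 = 0}.ncard =
    (Fintype.card F - 1) * Fintype.card F := by
  rw [← ncard_upper (F := F), ← Nat.card_coe_set_eq, ← Nat.card_coe_set_eq]
  refine Nat.card_congr
    { toFun := fun Y => ⟨Y.1.transpose, Y.2⟩
      invFun := fun Y => ⟨Y.1.transpose, Y.2⟩
      left_inv := fun Y => Subtype.ext (ext2 rfl rfl rfl rfl)
      right_inv := fun Y => Subtype.ext (ext2 rfl rfl rfl rfl) }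

theorem ncard_diag : {Y : S2 | Y.1 1 0 = 0 ∧ Y.1 0 1 = 0}.ncard = Fintype.card F - 1 := by
  rw [← Nat.card_coe_set_eq, ← card_nonzero]
  have key : ∀ Y : ↥{Y : S2 | Y.1 1 0 = 0 ∧ Y.1 0 1 = 0}, Y.1.1 0 0 * Y.1.1 1 1 = 1 := fun Y => by
    have := det_eq Y.1
    rwa [Y.2.1, mul_zero, sub_zero] at this
  refine Nat.card_congr
    { toFun := fun Y => ⟨Y.1.1 0 0, left_ne_zero_of_mul_eq_one (key Y)⟩
      invFun := fun a => ⟨mk2 a.1 0 0 a.1⁻¹ (by rw [mul_inv_cancel₀ a.2]; ring), rfl, rfl⟩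
      left_inv := fun Y => Subtype.ext (ext2 rfl (by simpa [mk2] using Y.2.2.symm)
        (by simpa [mk2] using Y.2.1.symm) ?_)
      right_inv := fun p => rfl }
  simpa [mk2] using inv_eq_of_mul_eq_one_right (key Y)

theorem ncard_antidiag : {Y : S2 | Y.1 0 0 = 0 ∧ Y.1 1 1 = 0}.ncard = Fintype.card F - 1 := by
  rw [← Nat.card_coe_set_eq, ← card_nonzero]
  have key : ∀ Y : ↥{Y : S2 | Y.1 0 0 = 0 ∧ Y.1 1 1 = 0}, Y.1.1 0 1 * (-Y.1.1 1 0) = 1 :=
    fun Y => by
      have := det_eq Y.1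
      rw [Y.2.1, zero_mul, zero_sub] at this
      linear_combination this
  refine Nat.card_congr
    { toFun := fun Y => ⟨Y.1.1 0 1, left_ne_zero_of_mul_eq_one (key Y)⟩
      invFun := fun a => ⟨mk2 0 a.1 (-a.1⁻¹) 0 (by rw [mul_neg, mul_inv_cancel₀ a.2]; ring), rfl,
        rfl⟩
      left_inv := fun Y => Subtype.ext (ext2 (by simpa [mk2] using Y.2.1.symm) rfl ?_
        (by simpa [mk2] using Y.2.2.symm))
      right_inv := fun p => rfl }
  simp [mk2, inv_eq_of_mul_eq_one_right (key Y)]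

theorem ncard_trace_line (φ : F → F) :
    {Y : S2 | Y.1 1 0 ≠ 0 ∧ tr Y = φ (Y.1 1 0)}.ncard =
      Fintype.card F * (Fintype.card F - 1) := by
  rw [← Nat.card_coe_set_eq, ← card_nonzero, ← Nat.card_eq_fintype_card, ← Nat.card_prod]
  refine Nat.card_congr
    { toFun := fun Y => (Y.1.1 0 0, ⟨Y.1.1 1 0, Y.2.1⟩)
      invFun := fun p => ⟨mk2 p.1 ((p.1 * (φ p.2.1 - p.1) - 1) / p.2.1) p.2.1 (φ p.2.1 - p.1)
          (by rw [div_mul_cancel₀ _ p.2.2]; ring), p.2.2, by simp [tr, mk2]⟩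
      left_inv := fun Y => ?_
      right_inv := fun p => rfl }
  have ht : Y.1.1 0 0 + Y.1.1 1 1 = φ (Y.1.1 1 0) := Y.2.2
  have hd := det_eq Y.1
  have hc : Y.1.1 1 0 ≠ 0 := Y.2.1
  refine Subtype.ext (ext2 rfl ?_ rfl ?_)
  · simp only [mk2]
    simp only [Matrix.of_apply, Matrix.cons_val', Matrix.cons_val_zero, Matrix.cons_val_one,
      Matrix.empty_val', Matrix.cons_val_fin_one]
    rw [← ht, div_eq_iff hc]
    linear_combination hd
  · simp [mk2, ← ht]

theorem ncard_trace_fix {c₀ : F} (hc : c₀ ≠ 0) (s : F) :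
    {Y : S2 | Y.1 1 0 = c₀ ∧ tr Y = s}.ncard = Fintype.card F := by
  rw [← Nat.card_coe_set_eq, ← Nat.card_eq_fintype_card]
  refine Nat.card_congr
    { toFun := fun Y => Y.1.1 0 0
      invFun := fun a => ⟨mk2 a ((a * (s - a) - 1) / c₀) c₀ (s - a)
          (by rw [div_mul_cancel₀ _ hc]; ring), rfl, by simp [tr, mk2]⟩
      left_inv := fun Y => ?_
      right_inv := fun a => rfl }
  have ht : Y.1.1 0 0 + Y.1.1 1 1 = s := Y.2.2
  have hd := det_eq Y.1
  refine Subtype.ext (ext2 rfl ?_ Y.2.1.symm ?_)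
  · simp only [mk2]
    simp only [Matrix.of_apply, Matrix.cons_val', Matrix.cons_val_zero, Matrix.cons_val_one,
      Matrix.empty_val', Matrix.cons_val_fin_one]
    rw [div_eq_iff hc]
    linear_combination hd - Y.1.1 0 0 * ht + Y.1.1 0 1 * Y.2.1
  · simp [mk2, ← ht]

/-- An anisotropic binary form takes every non-zero value `q + 1` times. -/
theorem card_norm {B C : F} (h : ∀ a : F, a * a + B * a + C ≠ 0) {k : F} (hk : k ≠ 0) :
    Nat.card {v : F × F // v.1 * v.1 + B * v.1 * v.2 + C * v.2 * v.2 = k} = Fintype.card F + 1 := by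
  classical
  set Q : F × F → F := fun v => v.1 * v.1 + B * v.1 * v.2 + C * v.2 * v.2 with hQ
  have hani : ∀ v, Q v = 0 → v = 0 := by
    rintro ⟨a, b⟩ hv
    by_cases hb : b = 0
    · subst hb
      have : a = 0 := by simpa [hQ] using hv
      simp [this]
    · exfalso
      refine h (a / b) ?_
      simp only [hQ] at hv
      field_simp
      linear_combination hv
  let m : F × F → F × F → F × F := fun v w =>
    (v.1 * w.1 - C * v.2 * w.2, v.1 * w.2 + v.2 * w.1 + B * v.2 * w.2)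
  have hm : ∀ v w, Q (m v w) = Q v * Q w := fun v w => by simp only [hQ, m]; ring
  have hinj : ∀ v, v ≠ 0 → Function.Injective (m v) := by
    intro v hv w w' e
    have e' : m v (w - w') = 0 := by
      have := congrArg (fun z => z - m v w') e
      simp only [sub_self] at this
      rw [← this]
      simp only [m, Prod.fst_sub, Prod.snd_sub]
      ext <;> simp <;> ring
    have h0 : Q v * Q (w - w') = 0 := by rw [← hm, e']; simp [hQ]
    exact sub_eq_zero.1 (hani _ ((mul_eq_zero.1 h0).resolve_left fun e0 => hv (hani v e0)))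
  -- fibres over attained values have the same size
  have hle : ∀ v, v ≠ 0 → ∀ l, Nat.card {w // Q w = l} ≤ Nat.card {w // Q w = Q v * l} :=
    fun v hv l => Nat.card_le_card_of_injective
      (fun w => ⟨m v w.1, by rw [hm, w.2]⟩)
      fun a b e => Subtype.ext (hinj v hv (congrArg Subtype.val e))
  -- every value has at most twice as many preimages as there are elements
  have hbound : ∀ l, Nat.card {w // Q w = l} ≤ 2 * Fintype.card F := by
    intro l
    rw [Nat.card_eq_fintype_card, Fintype.card_subtype]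
    refine (Finset.card_le_mul_card_image (f := Prod.snd) _ 2 ?_).trans
      (Nat.mul_le_mul_left 2 (Finset.card_le_univ _))
    intro b _
    set S := {v ∈ Finset.univ.filter (fun w => Q w = l) | v.2 = b} with hS
    rcases S.eq_empty_or_nonempty with e | ⟨v₀, hv₀⟩
    · simp [e]
    refine le_trans (Finset.card_le_card (t := {v₀, (-B * b - v₀.1, b)}) fun v hv => ?_)
      Finset.card_le_two
    simp only [hS, hQ, Finset.mem_filter, Finset.mem_univ, true_and] at hv hv₀
    obtain ⟨hv1, hv2⟩ := hv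
    obtain ⟨hw1, hw2⟩ := hv₀
    rw [hv2] at hv1
    rw [hw2] at hw1
    have : (v.1 - v₀.1) * (v.1 - (-B * b - v₀.1)) = 0 := by linear_combination hv1 - hw1
    rcases mul_eq_zero.1 this with e | e
    · simp [Prod.ext (sub_eq_zero.1 e) (hv2.trans hw2.symm)]
    · simp [Prod.ext (sub_eq_zero.1 e) hv2 (y := ((-B * b - v₀.1, b) : F × F))]
  have hscal : ∀ v : F × F, ∀ c : F, Q (c • v) = c * c * Q v := fun v c => by
    simp only [hQ, Prod.smul_fst, Prod.smul_snd, smul_eq_mul]; ring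
  -- the values form a group
  let V : Subgroup Fˣ :=
    { carrier := {u | ∃ v, Q v = (u : F)}
      one_mem' := ⟨(1, 0), by simp [hQ]⟩
      mul_mem' := fun {a b} ⟨v, hv⟩ ⟨w, hw⟩ => ⟨m v w, by rw [hm, hv, hw, Units.val_mul]⟩
      inv_mem' := fun {a} ⟨v, hv⟩ => ⟨((a⁻¹ : Fˣ) : F) • v, by
        rw [hscal, hv, mul_assoc, Units.inv_mul, mul_one]⟩ }
  have hV : ∀ u ∈ V, Nat.card {w // Q w = (u : F)} = Nat.card {w // Q w = (1 : F)} := by
    rintro u ⟨v, hv⟩
    have hv0 : v ≠ 0 := fun e => u.ne_zero (by rw [← hv, e]; simp [hQ])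
    refine le_antisymm ?_ ?_
    · obtain ⟨w, hw⟩ := V.inv_mem ⟨v, hv⟩
      have hw0 : w ≠ 0 := fun e => (u⁻¹).ne_zero (by rw [← hw, e]; simp [hQ])
      have := hle w hw0 (u : F)
      rwa [hw, Units.inv_mul] at this
    · have := hle v hv0 1
      rwa [hv, mul_one] at this
  set N := Nat.card {w // Q w = (1 : F)} with hN
  have htot : Nat.card ↥V * N = Fintype.card F * Fintype.card F - 1 := by
    have e1 : Nat.card {v : F × F // v ≠ 0} = Fintype.card F * Fintype.card F - 1 := by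
      rw [Nat.card_eq_fintype_card, Fintype.card_subtype_compl, Fintype.card_subtype_eq,
        Fintype.card_prod]
    let g : {v : F × F // v ≠ 0} → ↥V := fun v =>
      ⟨Units.mk0 (Q v.1) (fun e => v.2 (hani _ e)), v.1, rfl⟩
    have hfib : ∀ u : ↥V, Nat.card {v // g v = u} = N := fun u => by
      rw [← hV u.1 u.2]
      refine Nat.card_congr
        { toFun := fun v => ⟨v.1.1, congrArg (fun z : ↥V => ((z : Fˣ) : F)) v.2⟩
          invFun := fun w => ⟨⟨w.1, fun e => (u : Fˣ).ne_zero (by rw [← w.2, e]; simp [hQ])⟩,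
            Subtype.ext (Units.ext w.2)⟩
          left_inv := fun v => rfl
          right_inv := fun w => rfl }
    rw [← e1, Nat.card_congr (Equiv.sigmaFiberEquiv g).symm, Nat.card_sigma,
      Finset.sum_congr rfl fun u _ => hfib u, Finset.sum_const, Finset.card_univ, smul_eq_mul,
      Nat.card_eq_fintype_card]
  have htop : V = ⊤ := by
    by_contra hne
    have h2 : 2 ≤ V.index := by
      have := V.index_ne_zero_of_finite
      have : V.index ≠ 1 := fun e => hne (Subgroup.index_eq_one.1 e)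
      omega
    have h3 := V.card_mul_index
    rw [Nat.card_units, Nat.card_eq_fintype_card (α := F)] at h3
    have h4 := hbound 1
    rw [← hN] at h4
    obtain ⟨q', hq'⟩ : ∃ q', Fintype.card F = q' + 2 :=
      ⟨Fintype.card F - 2, by have := Fintype.one_lt_card (α := F); omega⟩
    rw [hq'] at htot h3 h4
    have h5 : Nat.card ↥V * 2 ≤ q' + 1 := (Nat.mul_le_mul_left _ h2).trans (le_of_eq h3)
    have h6 : (q' + 2) * (q' + 2) - 1 = q' * q' + 4 * q' + 3 := by
      rw [show (q' + 2) * (q' + 2) = q' * q' + 4 * q' + 3 + 1 by ring, Nat.add_sub_cancel]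
    nlinarith
  have hN' : N = Fintype.card F + 1 := by
    rw [htop, Subgroup.card_top, Nat.card_units, Nat.card_eq_fintype_card (α := F)] at htot
    refine Nat.eq_of_mul_eq_mul_left (Nat.sub_pos_of_lt (Fintype.one_lt_card (α := F))) ?_
    rw [htot, mul_comm (Fintype.card F - 1), ← Nat.sq_sub_sq (Fintype.card F) 1]
    ring_nf
  have hkV : Units.mk0 k hk ∈ V := htop ▸ Subgroup.mem_top _
  rw [← hN', ← hV _ hkV]
  rfl

end CfsgLib.Known.Solub
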