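import Cfsg.Agent.Lib.Classical.Dickson.MinimalSimple

/-!
# Solvable two-generated subgroups of `PSL₂` in characteristics two and three

The shape of a pair generating a solvable subgroup, and solvability criteria.
-/

set_option autoImplicit false
set_option linter.style.haveILetI false
set_option linter.unusedSectionVars false

namespace CfsgLib.Known.Solub

open Matrix Projectivization CfsgLib.Classical.Dickson
open scoped MatrixGroups LinearAlgebra.Projectivization

variable {F : Type*} [Field F] [Fintype F]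

local notation "G2" => ProjectiveSpecialLinearGroup (Fin 2) F
local notation "S2" => SpecialLinearGroup (Fin 2) F
local notation "T2" => Matrix.ProjectiveSpecialLinearGroup.toPGL (n := Fin 2) (R := F)

/-! ### Solvability criteria -/

/-- A two-generated group with a normalised abelian subgroup containing one generator. -/
theorem solvable_of_normal {G : Type*} [Group G] [Finite G] {x y : G} (N : Subgroup G)
    [IsMulCommutative ↥N] (hx : x ∈ N) (hy : ∀ n ∈ N, y * n * y⁻¹ ∈ N) (hN : N ≤ Subgroup.closure {x, y}) :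
    Group.IsSolvable ↥(Subgroup.closure ({x, y} : Set G)) := by
  set H := Subgroup.closure ({x, y} : Set G) with hH
  let N' := N.subgroupOf H
  have hnorm : H ≤ Subgroup.normalizer (N : Set G) := by
    rw [hH, Subgroup.closure_le]
    have key : ∀ g : G, (∀ n ∈ N, g * n * g⁻¹ ∈ N) → g ∈ Subgroup.normalizer (N : Set G) := by
      intro g hg
      rw [Subgroup.mem_normalizer_iff]
      refine fun n => ⟨hg n, fun h => ?_⟩
      have hinj : Function.Injective fun m : N => (⟨g * m * g⁻¹, hg m m.2⟩ : N) := fun a b e =>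
        Subtype.ext (by simpa using congrArg Subtype.val e)
      obtain ⟨m, hm⟩ := (Finite.injective_iff_surjective.1 hinj) ⟨_, h⟩
      have e : g * (m : G) * g⁻¹ = g * n * g⁻¹ := congrArg Subtype.val hm
      have : (m : G) = n := by simpa using e
      exact this ▸ m.2
    rintro g (rfl | rfl)
    · exact key g fun n hn => N.mul_mem (N.mul_mem hx hn) (N.inv_mem hx)
    · exact key g hy
  haveI hn : N'.Normal := Subgroup.normal_subgroupOf_of_le_normalizer hnorm
  haveI : IsMulCommutative ↥N' :=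
    ⟨⟨fun a b => Subtype.ext (Subtype.ext
      (congrArg (fun z : N => (z : G)) (mul_comm' (⟨((a : ↥H) : G), a.2⟩ : N) ⟨((b : ↥H) : G), b.2⟩)))⟩⟩
  haveI hc : IsCyclic (↥H ⧸ N') := by
    refine ⟨QuotientGroup.mk' N' ⟨y, Subgroup.subset_closure (by simp)⟩, fun g => ?_⟩
    change g ∈ Subgroup.zpowers _
    obtain ⟨⟨g, hg⟩, rfl⟩ := QuotientGroup.mk'_surjective N' g
    induction hg using Subgroup.closure_induction with
    | mem z hz =>
      rcases hz with rfl | rfl
      · rw [show QuotientGroup.mk' N' ⟨z, _⟩ = 1 from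
          (QuotientGroup.eq_one_iff _).2 (Subgroup.mem_subgroupOf.2 hx)]
        exact Subgroup.one_mem _
      · exact Subgroup.mem_zpowers _
    | one => exact (map_one (QuotientGroup.mk' N')).symm ▸ Subgroup.one_mem _
    | mul a b ha hb iha ihb =>
      have e : (⟨a * b, mul_mem ha hb⟩ : ↥H) = ⟨a, ha⟩ * ⟨b, hb⟩ := rfl
      rw [e, map_mul]
      exact Subgroup.mul_mem _ iha ihb
    | inv a ha iha =>
      have e : (⟨a⁻¹, inv_mem ha⟩ : ↥H) = (⟨a, ha⟩)⁻¹ := rfl
      rw [e, map_inv]
      exact Subgroup.inv_mem _ iha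
  haveI : Group.IsSolvable ↥N' := Group.isSolvable_of_comm mul_comm'
  letI : CommGroup (↥H ⧸ N') := IsCyclic.commGroup
  haveI : Group.IsSolvable (↥H ⧸ N') := inferInstance
  exact Group.isSolvable_of_ker_le_range N'.subtype (QuotientGroup.mk' N')
    (by rw [QuotientGroup.ker_mk', Subgroup.range_subtype])

/-- The generator `x` is sent to itself or to its inverse. -/
theorem solvable_of_conj {G : Type*} [Group G] [Finite G] {x y : G}
    (h : y * x * y⁻¹ = x ∨ y * x * y⁻¹ = x⁻¹) :
    Group.IsSolvable ↥(Subgroup.closure ({x, y} : Set G)) := by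
  refine solvable_of_normal (Subgroup.zpowers x) (Subgroup.mem_zpowers x) (fun n hn => ?_)
    (Subgroup.zpowers_le.2 (Subgroup.subset_closure (by simp)))
  obtain ⟨k, rfl⟩ := Subgroup.mem_zpowers_iff.1 hn
  rw [← conj_zpow]
  rcases h with h | h <;> rw [h]
  · exact Subgroup.zpow_mem_zpowers x k
  · rw [_root_.inv_zpow]; exact Subgroup.inv_mem _ (Subgroup.zpow_mem_zpowers x k)

/-- The pairs of a dihedral group. -/
theorem solvable_of_flip {G : Type*} [Group G] [Finite G] {x y : G} (hx : x * x = 1)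
    (h : y * y = 1 ∨ x * y * (x * y) = 1 ∨ Commute x y) :
    Group.IsSolvable ↥(Subgroup.closure ({x, y} : Set G)) := by
  have hxi : x⁻¹ = x := inv_eq_of_mul_eq_one_right hx
  rcases h with h | h | h
  · have hyi : y⁻¹ = y := inv_eq_of_mul_eq_one_right h
    have e : Subgroup.closure ({x, y} : Set G) = Subgroup.closure {x * y, y} := by
      refine le_antisymm ((Subgroup.closure_le _).2 ?_) ((Subgroup.closure_le _).2 ?_)
      · rintro z (rfl | rfl)
        · rw [show z = z * y * y⁻¹ by group]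
          exact Subgroup.mul_mem _ (Subgroup.subset_closure (by simp))
            (Subgroup.inv_mem _ (Subgroup.subset_closure (by simp)))
        · exact Subgroup.subset_closure (by simp)
      · rintro z (rfl | rfl)
        · exact Subgroup.mul_mem _ (Subgroup.subset_closure (by simp))
            (Subgroup.subset_closure (by simp))
        · exact Subgroup.subset_closure (by simp)
    rw [e]
    refine solvable_of_conj (Or.inr ?_)
    rw [_root_.mul_inv_rev, hxi, hyi, mul_assoc, mul_assoc, h, mul_one]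
  · rw [Set.pair_comm]
    refine solvable_of_conj (Or.inr ?_)
    rw [hxi, eq_inv_iff_mul_eq_one]
    simpa [mul_assoc] using h
  · exact solvable_of_conj (Or.inl (by rw [← h.eq, mul_inv_cancel_right]))

/-- The relations of the alternating group of degree four. -/
theorem solvable_of_triangle {G : Type*} [Group G] [Finite G] {x y : G} (hx : x * x = 1)
    (hy : y ^ 3 = 1) (hxy : (x * y) ^ 3 = 1) :
    Group.IsSolvable ↥(Subgroup.closure ({x, y} : Set G)) := by
  set b := y * x * y⁻¹ with hb
  set c := y⁻¹ * x * y with hc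
  have hxi : x⁻¹ = x := inv_eq_of_mul_eq_one_right hx
  have hy2 : y⁻¹ * y⁻¹ = y := by
    rw [← _root_.mul_inv_rev, inv_eq_iff_mul_eq_one, ← hy]
    simp [pow_succ, mul_assoc]
  have hab : x * b = c := by
    have h1 : x * b * c = 1 := by
      rw [hb, hc, show x * (y * x * y⁻¹) * (y⁻¹ * x * y) = x * y * x * (y⁻¹ * y⁻¹) * x * y by group,
        hy2, ← hxy]
      simp [pow_succ, mul_assoc]
    have hci : c⁻¹ = c := by
      rw [hc]; conv_rhs => rw [← hxi]
      group
    rw [← hci]; exact eq_inv_of_mul_eq_one_left h1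
  have hbi : b⁻¹ = b := by
    rw [hb]; conv_rhs => rw [← hxi]
    group
  have hba : b * x = c := by
    have hci : c⁻¹ = c := by
      rw [hc]; conv_rhs => rw [← hxi]
      group
    rw [← hci, ← hab, _root_.mul_inv_rev, hbi, hxi]
  haveI : IsMulCommutative ↥(Subgroup.closure ({x, b} : Set G)) :=
    Subgroup.isMulCommutative_closure (by
      rintro u (rfl | rfl) v (rfl | rfl)
      exacts [rfl, hab.trans hba.symm, hba.trans hab.symm, rfl])
  refine solvable_of_normal (Subgroup.closure ({x, b} : Set G))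
    (Subgroup.subset_closure (by simp)) ?_ ?_
  · have key : (Subgroup.closure ({x, b} : Set G)).map (MulAut.conj y).toMonoidHom ≤
        Subgroup.closure {x, b} := by
      rw [MonoidHom.map_closure, Subgroup.closure_le]
      rintro u ⟨v, rfl | rfl, rfl⟩
      · exact Subgroup.subset_closure (by simp [hb])
      · show y * b * y⁻¹ ∈ _
        rw [show y * b * y⁻¹ = c by
          rw [hb, hc, show y * (y * x * y⁻¹) * y⁻¹ = y * y * x * (y⁻¹ * y⁻¹) by simp [mul_assoc],
            hy2, show y * y = y⁻¹ by rw [eq_inv_iff_mul_eq_one, ← hy]; simp [pow_succ]],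
          ← hab]
        exact Subgroup.mul_mem _ (Subgroup.subset_closure (by simp))
          (Subgroup.subset_closure (by simp))
    exact fun n hn => key ⟨n, hn, rfl⟩
  · refine (Subgroup.closure_le _).2 ?_
    rintro u (rfl | rfl)
    · exact Subgroup.subset_closure (by simp)
    · exact Subgroup.mul_mem _ (Subgroup.mul_mem _ (Subgroup.subset_closure (by simp))
        (Subgroup.subset_closure (by simp))) (Subgroup.inv_mem _ (Subgroup.subset_closure (by simp)))

/-! ### Lifting to `SL₂` -/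

/-- The matrices have a common eigenvector. -/
def HasLine (X Y : S2) : Prop :=
  ∃ v : Fin 2 → F, v ≠ 0 ∧ (∃ a : F, (X : Matrix (Fin 2) (Fin 2) F).mulVec v = a • v) ∧
    ∃ b : F, (Y : Matrix (Fin 2) (Fin 2) F).mulVec v = b • v

theorem eigen_of_fix {M : S2} {v : Fin 2 → F} (hv : v ≠ 0)
    (h : T2 (QuotientGroup.mk M) • Projectivization.mk F v hv = Projectivization.mk F v hv) :
    ∃ a : F, (M : Matrix (Fin 2) (Fin 2) F).mulVec v = a • v := by
  rw [Matrix.ProjectiveSpecialLinearGroup.toPGL_mk, Projectivization.PGL.mk_smul_mk,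
    Projectivization.mk_eq_mk_iff'] at h
  obtain ⟨a, ha⟩ := h
  exact ⟨a, by simpa [Units.smul_def, Matrix.SpecialLinearGroup.toGL, Matrix.smul_eq_mulVec]
    using ha.symm⟩

theorem hasLine_of_fix {X Y : S2} {z : ℙ F (Fin 2 → F)}
    (hx : T2 (QuotientGroup.mk X) • z = z) (hy : T2 (QuotientGroup.mk Y) • z = z) : HasLine X Y := by
  induction z using Projectivization.ind with
  | h v hv => exact ⟨v, hv, eigen_of_fix hv hx, eigen_of_fix hv hy⟩

/-! ### The shape of a solvable pair -/

/-- The shape of a pair in a cyclic or dihedral group. -/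
def Flip {G : Type*} [Group G] (x y : G) : Prop :=
  (x * x = 1 → y * y = 1 ∨ x * y * (x * y) = 1 ∨ Commute x y) ∧
    (x * x ≠ 1 → y * x * y⁻¹ = x ∨ y * x * y⁻¹ = x⁻¹)

theorem flip_map {G H : Type*} [Group G] [Group H] (f : G →* H) (hf : Function.Injective f)
    {x y : G} (h : Flip x y) : Flip (f x) (f y) := by
  constructor
  · intro hx
    rcases h.1 (hf (by rw [map_mul, hx, map_one])) with e | e | e
    · exact Or.inl (by rw [← map_mul, e, map_one])
    · exact Or.inr (Or.inl (by rw [← map_mul, ← map_mul, e, map_one]))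
    · exact Or.inr (Or.inr (e.map f))
  · intro hx
    rcases h.2 (fun e => hx (by rw [← map_mul, e, map_one])) with e | e
    · exact Or.inl (by rw [← map_inv, ← map_mul, ← map_mul, e])
    · exact Or.inr (by rw [← map_inv, ← map_mul, ← map_mul, e, map_inv])

theorem flip_dihedral {n : ℕ} : ∀ a b : DihedralGroup n, Flip a b := by
  rintro (i | i) (j | j)
  · exact ⟨fun _ => Or.inr (Or.inr (show _ = _ by simp [add_comm])),
      fun _ => Or.inl (by simp)⟩
  · exact ⟨fun _ => Or.inl (by simp), fun _ => Or.inr (by simp)⟩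
  · refine ⟨fun _ => Or.inr (Or.inl (by simp)), fun h => absurd ?_ h⟩
    simp
  · refine ⟨fun _ => Or.inl (by simp), fun h => absurd ?_ h⟩
    simp

theorem flip_of_cyclic {G : Type*} [Group G] [IsCyclic G] (x y : G) : Flip x y := by
  letI : CommGroup G := IsCyclic.commGroup
  exact ⟨fun _ => Or.inr (Or.inr (Commute.all _ _)),
    fun _ => Or.inl (mul_inv_eq_iff_eq_mul.2 (mul_comm y x))⟩

theorem flip_six {G : Type*} [Group G] [Finite G] (h6 : Nat.card G = 6) (x y : G) : Flip x y := by
  by_cases hc : IsCyclic G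
  · exact flip_of_cyclic x y
  have key : ∀ a b : G, a * a ≠ 1 → b * a * b⁻¹ = a ∨ b * a * b⁻¹ = a⁻¹ := by
    intro a b ha
    have ho : orderOf a = 3 := by
      have hd := orderOf_dvd_natCard a
      rw [h6] at hd
      have hn2 : ¬ orderOf a ∣ 2 := fun h => ha (by
        rw [← sq]; exact orderOf_dvd_iff_pow_eq_one.1 h)
      have hn6 : orderOf a ≠ 6 := fun h => hc (isCyclic_of_orderOf_eq_card a (h.trans h6.symm))
      have : orderOf a ≤ 6 := Nat.le_of_dvd (by norm_num) hd
      interval_cases hk : orderOf a <;> omega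
    have hidx : (Subgroup.zpowers a).index = 2 := by
      have := Subgroup.card_mul_index (Subgroup.zpowers a)
      rw [Nat.card_zpowers, ho, h6] at this
      omega
    haveI := Subgroup.normal_of_index_eq_two hidx
    obtain ⟨k, hk⟩ := Subgroup.mem_zpowers_iff.1
      ((inferInstance : (Subgroup.zpowers a).Normal).conj_mem a (Subgroup.mem_zpowers a) b)
    have h3 : a ^ 3 = 1 := ho ▸ pow_orderOf_eq_one a
    rw [← hk, ← zpow_mod_orderOf a k, ho]
    obtain e | e | e : k % ((3 : ℕ) : ℤ) = 0 ∨ k % ((3 : ℕ) : ℤ) = 1 ∨ k % ((3 : ℕ) : ℤ) = 2 := by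
      have := Int.emod_nonneg k (show ((3 : ℕ) : ℤ) ≠ 0 by norm_num)
      have := Int.emod_lt_of_pos k (show (0 : ℤ) < ((3 : ℕ) : ℤ) by norm_num)
      omega
    · exfalso
      have e1 : b * a * b⁻¹ = 1 := by
        rw [← hk, ← zpow_mod_orderOf a k, ho, e, zpow_zero]
      exact ha (by rw [conj_eq_one_iff.1 e1, mul_one])
    · exact Or.inl (by rw [e, zpow_one])
    · refine Or.inr (eq_inv_of_mul_eq_one_left ?_)
      rw [e, zpow_two, ← h3, pow_succ, sq]
  refine ⟨fun ha => ?_, key _ _⟩
  by_cases hb : y * y = 1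
  · exact Or.inl hb
  rcases key _ x hb with e | e
  · exact Or.inr (Or.inr (mul_inv_eq_iff_eq_mul.1 e))
  · refine Or.inr (Or.inl ?_)
    rw [inv_eq_of_mul_eq_one_right ha] at e
    rw [← mul_assoc, e, inv_mul_cancel]

/-- A pair in a subgroup which is cyclic, dihedral or of order six. -/
theorem flip_of_small {G : Type*} [Group G] [Finite G] {H : Subgroup G} {x y : G}
    (hx : x ∈ H) (hy : y ∈ H)
    (hH : IsCyclic H ∨ (∃ n, Nonempty (H ≃* DihedralGroup n)) ∨ Nat.card H = 6) : Flip x y := by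
  suffices h : Flip (⟨x, hx⟩ : H) ⟨y, hy⟩ from flip_map H.subtype H.subtype_injective h
  rcases hH with hc | ⟨n, ⟨e⟩⟩ | h6
  · exact flip_of_cyclic _ _
  · simpa using flip_map e.symm.toMonoidHom e.symm.injective
      (flip_dihedral (e ⟨x, hx⟩) (e ⟨y, hy⟩))
  · exact flip_six h6 _ _

/-- An element sending a unipotent element to one commuting with it fixes the same point. -/
theorem fix_of_commute {a : G2}
    {z : ℙ F (Fin 2 → F)} (hz : fixSet (T2 a) = {z}) {y : G2} (hc : Commute a (y * a * y⁻¹)) :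
    T2 y • z = z := by
  set b := y * a * y⁻¹ with hb
  have hbz : T2 b • z = z := by
    have h : T2 b • z ∈ fixSet (T2 a) := by
      rw [mem_fixSet, ← mul_smul, ← map_mul, hc.eq, map_mul, mul_smul,
        (by rw [← mem_fixSet, hz]; rfl : T2 a • z = z)]
    rwa [hz] at h
  have hfix : fixSet (T2 b) = {T2 y • z} := by
    rw [hb, map_mul, map_mul, map_inv, fixSet_conj, hz, Set.image_singleton]
  have : z ∈ fixSet (T2 b) := hbz
  rw [hfix] at this
  exact this.symm

theorem alt_four_facts :
    ∀ a b : alternatingGroup (Fin 4), a * a = 1 →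
      a * (b * a * b⁻¹) = b * a * b⁻¹ * a := by
  decide

variable (p : ℕ) [hp : Fact p.Prime] [CharP F p]

include p in
/-- Dickson's list, keeping the fixed point. -/
theorem shape {q : ℕ} (hF : Fintype.card F = q) (H : Subgroup G2) :
    IsCyclic H ∨ (∃ n, Nonempty (H ≃* DihedralGroup n)) ∨
      (∃ z : ℙ F (Fin 2 → F), ∀ h ∈ H, T2 h • z = z) ∨
      Nonempty (H ≃* alternatingGroup (Fin 4)) ∨ Nonempty (H ≃* Equiv.Perm (Fin 4)) ∨
      Nonempty (H ≃* alternatingGroup (Fin 5)) ∨
      (∃ (K : Type) (_ : Field K) (_ : Fintype K) (m : ℕ), Fintype.card K ^ m = q ∧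
        (Nonempty (H ≃* ProjectiveSpecialLinearGroup (Fin 2) K) ∨
          Nonempty (H ≃* Matrix.ProjGenLinGroup (Fin 2) K))) := by
  haveI : CharP (AlgebraicClosure F) p :=
    charP_of_injective_algebraMap (algebraMap F _).injective p
  set f : F →+* AlgebraicClosure F := algebraMap F _ with hf
  let ι : G2 →* Matrix.ProjGenLinGroup (Fin 2) (AlgebraicClosure F) :=
    (pglMap f).comp Matrix.ProjectiveSpecialLinearGroup.toPGL
  have hι : Function.Injective ι :=
    (pglMap_injective f).comp Matrix.ProjectiveSpecialLinearGroup.toPGL_injective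
  let G := H.map ι
  let e : H ≃* G := Subgroup.equivMapOfInjective H ι hι
  haveI : Finite G := Finite.of_equiv H e.toEquiv
  rcases classify p G with ⟨hcyc, -⟩ | ⟨n, -, -, ⟨φ⟩⟩ | ⟨x, hx, u, hu, hux⟩ | ⟨⟨φ⟩⟩ | ⟨⟨φ⟩⟩ |
    ⟨⟨φ⟩⟩ | ⟨Q, k, hQ, hsyl, hm, hcard, hk⟩
  · exact Or.inl (e.isCyclic.2 hcyc)
  · exact Or.inr (Or.inl ⟨n, ⟨e.trans φ⟩⟩)
  · refine Or.inr (Or.inr (Or.inl ?_))
    obtain ⟨v, hv⟩ := e.surjective u
    have hval : ∀ h : H, ((e h : G) : Matrix.ProjGenLinGroup (Fin 2) (AlgebraicClosure F)) = ι h :=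
      fun h => rfl
    obtain ⟨P, hP⟩ := exists_le_normalizer_sylow p H f x (fun h hh => hx (e ⟨h, hh⟩)) v
      (fun h => hu (by rw [← hv, show v = 1 from Subtype.ext h, map_one]))
      (by rw [← hux, ← hv, hval]; rfl)
    obtain ⟨z, hz, -⟩ := sylow_point p P
    exact ⟨z, fun h hh => (hz h).1 (hP hh)⟩
  · exact Or.inr (Or.inr (Or.inr (Or.inl ⟨e.trans φ⟩)))
  · exact Or.inr (Or.inr (Or.inr (Or.inr (Or.inl ⟨e.trans φ⟩))))
  · exact Or.inr (Or.inr (Or.inr (Or.inr (Or.inr (Or.inl ⟨e.trans φ⟩)))))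
  · refine Or.inr (Or.inr (Or.inr (Or.inr (Or.inr (Or.inr ?_)))))
    let G' := H.map (Matrix.ProjectiveSpecialLinearGroup.toPGL (n := Fin 2) (R := F))
    let e' : H ≃* G' :=
      Subgroup.equivMapOfInjective H _ Matrix.ProjectiveSpecialLinearGroup.toPGL_injective
    have eg : G ≃* G' := e.symm.trans e'
    haveI : Finite G' := Finite.of_equiv G eg.toEquiv
    obtain ⟨R⟩ : Nonempty (Sylow p G) := inferInstance
    obtain ⟨S, hS, hcases⟩ := wild_identification p G' Q k hQ
      (fun P => (card_sylow_sub_congr p eg R P).symm.trans (hsyl R))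
      ((card_sylow_congr p eg).symm.trans hm) ((Nat.card_congr eg.toEquiv).symm.trans hcard) hk
    haveI : Fintype S := Fintype.ofFinite _
    haveI : CharP S p := (RingHom.charP_iff_charP S.subtype p).2 inferInstance
    obtain ⟨⟨j, hj0⟩, hj : p.Prime ∧ _⟩ := FiniteField.card S p
    simp only [PNat.mk_coe] at hj
    haveI : Fintype (GaloisField p j) := Fintype.ofFinite _
    have hcK : Fintype.card (GaloisField p j) = Fintype.card S := by
      rw [← Nat.card_eq_fintype_card, GaloisField.card p j hj0.ne', hj.2]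
    let σ : S ≃+* GaloisField p j := FiniteField.ringEquivOfCardEq hcK.symm
    refine ⟨GaloisField p j, inferInstance, inferInstance, Module.finrank S F, ?_, ?_⟩
    · rw [hcK, ← Module.card_eq_pow_finrank (K := S) (V := F), hF]
    · rcases hcases with ⟨-, ⟨ψ⟩⟩ | ⟨-, ⟨ψ⟩⟩
      · exact Or.inr ⟨e'.trans (ψ.trans (pglCongr σ))⟩
      · exact Or.inl ⟨e'.trans (ψ.trans (pslCongr σ))⟩

theorem alt_five_not_solvable : ¬ Group.IsSolvable (alternatingGroup (Fin 5)) := by
  intro h
  haveI := h
  have hperf : commutator (alternatingGroup (Fin 5)) = ⊤ :=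
    commutator_alternatingGroup_eq_top (by simp)
  exact (Group.IsSolvable.commutator_lt_top_of_nontrivial (alternatingGroup (Fin 5))).ne hperf

/-- The shape of a pair generating a solvable subgroup. -/
theorem pair_cases {r : ℕ} (hr : r.Prime) (hp23 : p = 2 ∨ (p = 3 ∧ r ≠ 2))
    (hF : Fintype.card F = p ^ r) {X Y : S2}
    (hsol : Group.IsSolvable ↥(Subgroup.closure
      ({(QuotientGroup.mk X : G2), (QuotientGroup.mk Y : G2)} : Set G2))) :
    HasLine X Y ∨ Flip (QuotientGroup.mk X : G2) (QuotientGroup.mk Y : G2) ∨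
      (p = 3 ∧ (QuotientGroup.mk X : G2) ^ 24 = 1 ∧ (QuotientGroup.mk Y : G2) ^ 24 = 1 ∧
        ((QuotientGroup.mk X : G2) * QuotientGroup.mk Y) ^ 24 = 1) := by
  set x : G2 := QuotientGroup.mk X with hx
  set y : G2 := QuotientGroup.mk Y with hy
  set H := Subgroup.closure ({x, y} : Set G2) with hH
  have hxH : x ∈ H := Subgroup.subset_closure (by simp)
  have hyH : y ∈ H := Subgroup.subset_closure (by simp)
  have h4 : 4 ≤ p ^ r := by
    calc 4 = 2 ^ 2 := rfl
      _ ≤ 2 ^ r := Nat.pow_le_pow_right (by norm_num) hr.two_le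
      _ ≤ p ^ r := Nat.pow_le_pow_left hp.out.two_le r
  have htop : H ≠ ⊤ := fun e => by
    rw [e] at hsol
    haveI := hsol
    exact (noncomm_of_four_le hF h4).2.2
      (Group.isSolvable_of_surjective (f := (⊤ : Subgroup G2).subtype) fun g => ⟨⟨g, trivial⟩, rfl⟩)
  have h24 : Nat.card H ∣ 24 → p = 3 →
      x ^ 24 = 1 ∧ y ^ 24 = 1 ∧ (x * y) ^ 24 = 1 := fun hd _ => by
    have key : ∀ g ∈ H, g ^ 24 = 1 := fun g hg => by
      obtain ⟨k, hk⟩ := (Subgroup.orderOf_dvd_natCard H hg).trans hd
      rw [hk, pow_mul, pow_orderOf_eq_one, one_pow]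
    exact ⟨key x hxH, key y hyH, key _ (Subgroup.mul_mem _ hxH hyH)⟩
  haveI : CharP (AlgebraicClosure F) p :=
    charP_of_injective_algebraMap (algebraMap F _).injective p
  rcases shape p hF H with hc | hd | ⟨z, hz⟩ | ⟨⟨e⟩⟩ | ⟨⟨e⟩⟩ | ⟨⟨e⟩⟩ | ⟨K, _, _, m, hm, hiso⟩
  · exact Or.inr (Or.inl (flip_of_small hxH hyH (Or.inl hc)))
  · exact Or.inr (Or.inl (flip_of_small hxH hyH (Or.inr (Or.inl hd))))
  · exact Or.inl (hasLine_of_fix (hz x hxH) (hz y hyH))
  · -- the alternating group of degree four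
    rcases hp23 with rfl | ⟨rfl, -⟩
    · refine Or.inl ?_
      set c : alternatingGroup (Fin 4) :=
        ⟨Equiv.swap 0 1 * Equiv.swap 2 3, Equiv.Perm.mem_alternatingGroup.2 (by decide)⟩ with hc
      have hc2 : c * c = 1 := by rw [hc]; decide
      have hc1 : c ≠ 1 := by rw [hc]; decide
      set a : G2 := ((e.symm c : H) : G2) with ha
      have ha2 : a ^ 2 = 1 := by
        rw [sq, ha, ← Subgroup.coe_mul, ← map_mul, hc2, map_one, Subgroup.coe_one]
      have ha1 : a ≠ 1 := fun h => hc1 (e.symm.injective ((Subtype.ext h).trans (map_one _).symm))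
      obtain ⟨z, hz⟩ := fixed_of_pGroup 2 (IsPGroup.of_card (p := 2) (n := 1)
        (show Nat.card (Subgroup.zpowers a) = 2 ^ 1 by
          rw [Nat.card_zpowers, pow_one, orderOf_eq_prime ha2 ha1]))
      have hza := (hz a (Subgroup.mem_zpowers a)).2 ha1
      have key : ∀ g ∈ H, T2 g • z = z := fun g hg => by
        refine fix_of_commute hza ?_
        have h := alt_four_facts c (e ⟨g, hg⟩) hc2
        have h' := congrArg (fun v => ((e.symm v : H) : G2)) h
        simp only [map_mul, map_inv, MulEquiv.symm_apply_apply, Subgroup.coe_mul,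
          Subgroup.coe_inv] at h'
        exact h'
      exact hasLine_of_fix (key x hxH) (key y hyH)
    · refine Or.inr (Or.inr ⟨rfl, h24 ?_ rfl⟩)
      rw [Nat.card_congr e.toEquiv, nat_card_alternatingGroup, Nat.card_fin]
      decide
  · rcases hp23 with rfl | ⟨rfl, -⟩
    · exfalso
      obtain ⟨c, hc⟩ : ∃ c : Equiv.Perm (Fin 4), c ^ 4 = 1 ∧ c ^ 2 ≠ 1 :=
        ⟨finRotate 4, by decide, by decide⟩
      have ho : orderOf c = 4 :=
        orderOf_eq_prime_pow (p := 2) (n := 1) (by simpa using hc.2) (by simpa using hc.1)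
      refine orderOf_ne_four ((e.symm c : H) : G2) ?_
      rw [Subgroup.orderOf_coe, MulEquiv.orderOf_eq, ho]
    · refine Or.inr (Or.inr ⟨rfl, h24 ?_ rfl⟩)
      rw [Nat.card_congr e.toEquiv, Nat.card_perm, Nat.card_fin]
      decide
  · haveI := hsol
    exact absurd (Group.isSolvable_of_surjective (f := e.toMonoidHom) e.surjective)
      fun h => absurd h alt_five_not_solvable
  · obtain ⟨pK, _⟩ := CharP.exists K
    haveI : Fact pK.Prime := ⟨CharP.char_is_prime K pK⟩
    obtain ⟨j, -, hj⟩ := FiniteField.card K pK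
    have hjm : pK ^ ((j : ℕ) * m) = p ^ r := by rw [pow_mul, ← hj, hm]
    have hpp : pK = p := (Nat.prime_dvd_prime_iff_eq Fact.out hp.out).1
      ((Fact.out : pK.Prime).dvd_of_dvd_pow (n := r)
        (hjm ▸ dvd_pow_self pK (fun h0 => by
          rw [h0, pow_zero] at hjm
          omega)))
    subst hpp
    rcases hr.eq_one_or_self_of_dvd _ ⟨m, (Nat.pow_right_injective hp.out.two_le hjm).symm⟩ with
      e1 | e1
    · rw [e1, pow_one] at hj
      have hcard : Nat.card H ∣ pK * ((pK - 1) * (pK + 1)) := by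
        rcases hiso with ⟨⟨e⟩⟩ | ⟨⟨e⟩⟩
        · rw [Nat.card_congr e.toEquiv]
          exact ⟨_, ((Nat.mul_comm _ _).trans (gcd_mul_card_PSL hj)).symm⟩
        · rw [Nat.card_congr e.toEquiv, card_pgl hj]
      rcases hp23 with rfl | ⟨rfl, -⟩
      · refine Or.inr (Or.inl (flip_of_small hxH hyH (Or.inr (Or.inr ?_))))
        rcases hiso with ⟨⟨e⟩⟩ | ⟨⟨e⟩⟩
        · rw [Nat.card_congr e.toEquiv]
          simpa using gcd_mul_card_PSL hj
        · rw [Nat.card_congr e.toEquiv, card_pgl hj]
      · exact Or.inr (Or.inr ⟨rfl, h24 (by simpa using hcard) rfl⟩)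
    · exact absurd (subfield_lt hF (by rw [hj, e1]) H hiso) htop

end CfsgLib.Known.Solub
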