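import Cfsg.Agent.Lib.Known.Solub.Torus

/-!
# Solubilizers in `PSL₂(3^p)`
-/

set_option autoImplicit false
set_option linter.style.haveILetI false
set_option linter.unusedSectionVars false
set_option maxHeartbeats 800000

namespace CfsgLib.Known.Solub

open Matrix CfsgLib.Classical.Dickson
open scoped MatrixGroups

variable {F : Type*} [Field F] [Fintype F] [CharP F 3] {r : ℕ} (hr : r.Prime) (hr2 : r ≠ 2)
  (hF : Fintype.card F = 3 ^ r)
include hr hr2 hF

local notation "G2" => ProjectiveSpecialLinearGroup (Fin 2) F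
local notation "S2" => SpecialLinearGroup (Fin 2) F
local notation "π2" => QuotientGroup.mk (s := Subgroup.center (SpecialLinearGroup (Fin 2) F))

omit [CharP F 3] in
theorem card_mod : Fintype.card F % 8 = 3 ∧ Fintype.card F % 3 = 0 := by
  obtain ⟨k, rfl⟩ : ∃ k, r = 2 * k + 1 := hr.odd_of_ne_two hr2
  rw [hF]
  constructor
  · rw [pow_succ, pow_mul, Nat.mul_mod, Nat.pow_mod]
    norm_num
  · rw [pow_succ]; simp

omit hr hr2 hF in
theorem three_zero : (3 : F) = 0 := by exact_mod_cast CharP.cast_eq_zero F 3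

theorem no_sqrt_neg_one (a : F) : a * a ≠ -1 := fun h => by
  have := (FiniteField.isSquare_neg_one_iff (F := F)).1 ⟨a, h.symm⟩
  have := (card_mod hr hr2 hF).1
  omega

theorem sum_sq_ne (a : F) : a * a + 0 * a + 1 ≠ 0 := fun h =>
  no_sqrt_neg_one hr hr2 hF a (by linear_combination h)

theorem not_eigen_of_tr {X : S2} (h : tr X = 0) : ¬ HasEigen X := fun he => by
  obtain ⟨a, ha⟩ := root_of_eigen he
  exact no_sqrt_neg_one hr hr2 hF a (by linear_combination ha + a * h)

/-- The elements whose order divides 24. -/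
theorem orders_small {g : G2} (h : g ^ 24 = 1) : g * g = 1 ∨ g ^ 3 = 1 := by
  obtain ⟨hm8, hm3⟩ := card_mod hr hr2 hF
  obtain ⟨c, X, hcX, hcase⟩ := normal_form 3 g
  have hg : ∀ {a : ℕ}, g ^ a = 1 → g ^ Nat.gcd 24 a = 1 := fun ha =>
    orderOf_dvd_iff_pow_eq_one.1 (Nat.dvd_gcd (orderOf_dvd_of_pow_eq_one h)
      (orderOf_dvd_of_pow_eq_one ha))
  rcases hcase with ⟨-, -, hp⟩ | ⟨-, -, -, hp⟩ | ⟨-, hp⟩
  · exact Or.inr hp
  · left
    have hd : Nat.gcd 24 (Fintype.card F - 1) ∣ 2 := by
      have h24 : Nat.gcd 24 (Fintype.card F - 1) ∣ 24 := Nat.gcd_dvd_left _ _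
      have hq := Nat.gcd_dvd_right 24 (Fintype.card F - 1)
      have : Nat.gcd 24 (Fintype.card F - 1) ≤ 24 := Nat.le_of_dvd (by norm_num) h24
      interval_cases hk : Nat.gcd 24 (Fintype.card F - 1) <;> omega
    obtain ⟨k, hk⟩ := hd
    rw [← sq]
    exact (congrArg (g ^ ·) hk).trans (by rw [pow_mul, hg hp, one_pow])
  · left
    have hd : Nat.gcd 24 (Fintype.card F + 1) ∣ 4 := by
      have h24 : Nat.gcd 24 (Fintype.card F + 1) ∣ 24 := Nat.gcd_dvd_left _ _
      have hq := Nat.gcd_dvd_right 24 (Fintype.card F + 1)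
      have : Nat.gcd 24 (Fintype.card F + 1) ≤ 24 := Nat.le_of_dvd (by norm_num) h24
      interval_cases hk : Nat.gcd 24 (Fintype.card F + 1) <;> omega
    obtain ⟨k, hk⟩ := hd
    have h4 : g ^ 4 = 1 := by rw [hk, pow_mul, hg hp, one_pow]
    obtain ⟨Y, rfl⟩ := QuotientGroup.mk_surjective g
    have h2 : π2 (Y * Y) * π2 (Y * Y) = 1 := by
      rw [QuotientGroup.mk_mul, ← h4]; simp [pow_succ, mul_assoc]
    obtain ⟨a, b, c', d⟩ := mul_self_entries Y
    rcases tr_of_sq h2 with ht | ⟨e1, e2, e3⟩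
    · exfalso
      refine no_sqrt_neg_one hr hr2 hF (tr Y) ?_
      unfold tr at ht
      rw [a, d] at ht
      have : tr Y * tr Y = 2 := by
        conv_lhs => lhs; unfold tr
        linear_combination ht
      rw [this]
      linear_combination three_zero (F := F)
    · rw [← QuotientGroup.mk_mul, mk_eq_one]
      have hd := det_eq (Y * Y)
      rw [e1, e2, ← e3, mul_zero, sub_zero] at hd
      rcases mul_self_eq_one_iff.1 hd with f | f
      · exact Or.inl (ext2 (by simp [f]) (by simp [e1]) (by simp [e2]) (by simp [← e3, f]))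
      · exact Or.inr (ext2 (by simp [f, neg_entries]) (by simp [e1, neg_entries])
          (by simp [e2, neg_entries]) (by simp [← e3, f, neg_entries]))

/-- The possible traces of the elements of order at most three. -/
theorem tr_small {Y : S2} (h : π2 Y * π2 Y = 1 ∨ π2 Y ^ 3 = 1) :
    tr Y = 0 ∨ tr Y = 1 ∨ tr Y = -1 := by
  have h3 := three_zero (F := F)
  have hscal : Y.1 0 1 = 0 → Y.1 1 0 = 0 → Y.1 0 0 = Y.1 1 1 → tr Y = 1 ∨ tr Y = -1 := by
    intro e1 e2 e3
    have hd := det_eq Y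
    rw [e1, e2, ← e3, mul_zero, sub_zero] at hd
    unfold tr
    rcases mul_self_eq_one_iff.1 hd with f | f <;> rw [← e3, f]
    · exact Or.inr (by linear_combination h3)
    · exact Or.inl (by linear_combination -h3)
  rcases h with h | h
  · rcases tr_of_sq h with e | ⟨e1, e2, e3⟩
    · exact Or.inl e
    · exact Or.inr (hscal e1 e2 e3)
  · right
    obtain ⟨a, b, c, d⟩ := mul_self_entries Y
    have hd := det_eq Y
    rw [pow_succ, pow_two, ← QuotientGroup.mk_mul, ← QuotientGroup.mk_mul, mk_eq_one] at h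
    have k01 : (Y * Y * Y).1 0 1 = Y.1 0 1 * (tr Y * tr Y - 1) := by
      rw [mul01, a, b]; unfold tr; ring
    have k10 : (Y * Y * Y).1 1 0 = Y.1 1 0 * (tr Y * tr Y - 1) := by
      rw [mul10, c, d]; unfold tr; ring
    have k00 : (Y * Y * Y).1 0 0 = Y.1 0 0 * (tr Y * tr Y - 1) - tr Y := by
      rw [mul00, a, b]; unfold tr; linear_combination -(Y.1 0 0 + Y.1 1 1) * hd
    have k11 : (Y * Y * Y).1 1 1 = Y.1 1 1 * (tr Y * tr Y - 1) - tr Y := by
      rw [mul11, c, d]; unfold tr; linear_combination -(Y.1 0 0 + Y.1 1 1) * hd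
    have key : (Y * Y * Y).1 0 1 = 0 ∧ (Y * Y * Y).1 1 0 = 0 ∧
        (Y * Y * Y).1 0 0 = (Y * Y * Y).1 1 1 := by
      rcases h with e | e <;> rw [e] <;> simp [neg_entries]
    by_cases hs : tr Y * tr Y - 1 = 0
    · exact mul_self_eq_one_iff.1 (sub_eq_zero.1 hs)
    · rw [k01, k10, k00, k11] at key
      exact hscal ((mul_eq_zero.1 key.1).resolve_right hs) ((mul_eq_zero.1 key.2.1).resolve_right hs)
        (mul_right_cancel₀ hs (by linear_combination key.2.2))

theorem cube_of_tr {Y : S2} (h : tr Y = 1 ∨ tr Y = -1) : π2 Y ^ 3 = 1 := by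
  obtain ⟨a, b, c, d⟩ := mul_self_entries Y
  have hd := det_eq Y
  have hs : tr Y * tr Y = 1 := by rcases h with e | e <;> rw [e] <;> ring
  rw [pow_succ, pow_two, ← QuotientGroup.mk_mul, ← QuotientGroup.mk_mul, mk_eq_one]
  unfold tr at hs a b c d
  have k00 : (Y * Y * Y).1 0 0 = -tr Y := by
    rw [mul00, a, b]; unfold tr
    linear_combination Y.1 0 0 * hs - (Y.1 0 0 + Y.1 1 1) * hd
  have k11 : (Y * Y * Y).1 1 1 = -tr Y := by
    rw [mul11, c, d]; unfold tr
    linear_combination Y.1 1 1 * hs - (Y.1 0 0 + Y.1 1 1) * hd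
  have k01 : (Y * Y * Y).1 0 1 = 0 := by rw [mul01, a, b]; linear_combination Y.1 0 1 * hs
  have k10 : (Y * Y * Y).1 1 0 = 0 := by rw [mul10, c, d]; linear_combination Y.1 1 0 * hs
  rcases h with e | e
  · exact Or.inr (ext2 (by simp [k00, e, neg_entries]) (by simp [k01, neg_entries])
      (by simp [k10, neg_entries]) (by simp [k11, e, neg_entries]))
  · exact Or.inl (ext2 (by simp [k00, e]) (by simp [k01]) (by simp [k10]) (by simp [k11, e]))

theorem sol_involution_three {X : S2} (h00 : X.1 0 0 = 0) (h01 : X.1 0 1 = 1)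
    (h10 : X.1 1 0 = -1) (h11 : X.1 1 1 = 0) :
    {Y : S2 | Sol (π2 X) (π2 Y)}.ncard = 2 * (Fintype.card F * (Fintype.card F + 1)) := by
  have h3 := three_zero (F := F)
  have hna := no_sqrt_neg_one hr hr2 hF
  have htX : tr X = 0 := by unfold tr; rw [h00, h11, add_zero]
  have hxx : π2 X * π2 X = 1 := sq_eq_one_of_tr htX
  have hXY : ∀ Y : S2, (X * Y).1 0 0 = Y.1 1 0 ∧ (X * Y).1 0 1 = Y.1 1 1 ∧
      (X * Y).1 1 0 = -Y.1 0 0 ∧ (X * Y).1 1 1 = -Y.1 0 1 := fun Y => by
    rw [mul00, mul01, mul10, mul11, h00, h01, h10, h11]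
    exact ⟨by ring, by ring, by ring, by ring⟩
  have htXY : ∀ Y : S2, tr (X * Y) = Y.1 1 0 - Y.1 0 1 := fun Y => by
    obtain ⟨a, -, -, d⟩ := hXY Y
    unfold tr; rw [a, d]; ring
  have hcomm : ∀ Y : S2, Y * X = X * Y ↔ Y.1 1 1 = Y.1 0 0 ∧ Y.1 1 0 = -Y.1 0 1 := by
    intro Y
    obtain ⟨a, b, c, d⟩ := hXY Y
    constructor
    · intro h
      have k00 := congrArg (fun Z : S2 => Z.1 0 0) h
      have k01 := congrArg (fun Z : S2 => Z.1 0 1) h
      simp only [a, b] at k00 k01
      simp only [mul00, mul01, h00, h01, h10, h11] at k00 k01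
      exact ⟨by linear_combination -k01, by linear_combination -k00⟩
    · rintro ⟨e1, e2⟩
      refine ext2 ?_ ?_ ?_ ?_
      · rw [a, mul00, h00, h10, e2]; ring
      · rw [b, mul01, h01, h11, e1]; ring
      · rw [c, mul10, h00, h10, e1]; ring
      · rw [d, mul11, h01, h11, e2]; ring
  set A : Set S2 := {Y | tr Y = 0} with hA
  set B : Set S2 := {Y | tr (X * Y) = 0} with hB
  set C : Set S2 := {Y | Y * X = X * Y} with hC
  set D : Set S2 := {Y | (tr Y = 1 ∨ tr Y = -1) ∧ (tr (X * Y) = 1 ∨ tr (X * Y) = -1)} with hD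
  have eq : {Y : S2 | Sol (π2 X) (π2 Y)} = A ∪ B ∪ C ∪ D := by
    ext Y
    simp only [hA, hB, hC, hD, Set.mem_ofPred_eq, Set.mem_union]
    constructor
    · intro h
      rcases pair_cases 3 hr (Or.inr ⟨rfl, hr2⟩) hF h with ⟨v, hv, ha, -⟩ | h | ⟨-, -, h2, h4⟩
      · exact absurd ⟨v, hv, ha⟩ (not_eigen_of_tr hr hr2 hF htX)
      · rcases h.1 hxx with h | h | h
        · rcases tr_of_sq h with e | ⟨e1, e2, e3⟩
          · exact Or.inl (Or.inl (Or.inl e))
          · exact Or.inl (Or.inr ((hcomm Y).2 ⟨e3.symm, by rw [e1, e2, neg_zero]⟩))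
        · rw [← QuotientGroup.mk_mul] at h
          rcases tr_of_sq h with e | ⟨e1, e2, e3⟩
          · exact Or.inl (Or.inl (Or.inr e))
          · obtain ⟨a, b, c, d⟩ := hXY Y
            rw [b] at e1; rw [c, neg_eq_zero] at e2; rw [a, d] at e3
            exact Or.inl (Or.inr ((hcomm Y).2 ⟨e1.trans e2.symm, e3⟩))
        · have h' : π2 (Y * X) = π2 (X * Y) := h.symm
          rw [mk_eq] at h'
          rcases h' with h' | h'
          · exact Or.inl (Or.inr h')
          · refine Or.inl (Or.inl (Or.inl ?_))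
            have k01 := congrArg (fun Z : S2 => Z.1 0 1) h'
            simp only [neg_entries, mul01, h00, h01, h11] at k01
            unfold tr; linear_combination k01
      · rw [← QuotientGroup.mk_mul] at h4
        rcases tr_small hr hr2 hF (orders_small hr hr2 hF h2) with e | e
        · exact Or.inl (Or.inl (Or.inl e))
        rcases tr_small hr hr2 hF (orders_small hr hr2 hF h4) with f | f
        · exact Or.inl (Or.inl (Or.inr f))
        exact Or.inr ⟨e, f⟩
    · rintro (((h | h) | h) | ⟨h1, h2⟩)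
      · exact solvable_of_flip hxx (Or.inl (sq_eq_one_of_tr h))
      · exact solvable_of_flip hxx (Or.inr (Or.inl
          (by rw [← QuotientGroup.mk_mul]; exact sq_eq_one_of_tr h)))
      · exact solvable_of_flip hxx (Or.inr (Or.inr (show π2 (X * Y) = π2 (Y * X) by rw [h])))
      · exact solvable_of_triangle hxx (cube_of_tr hr hr2 hF h1)
          (by rw [← QuotientGroup.mk_mul]; exact cube_of_tr hr hr2 hF h2)
  -- the sizes
  have hsum : ∀ a : F, a * a + (0 : F) * a + 1 ≠ 0 := sum_sq_ne hr hr2 hF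
  have cA : A.ncard = Fintype.card F * (Fintype.card F - 1) := by
    rw [← ncard_trace_line (fun _ => (0 : F))]
    refine congrArg Set.ncard (Set.ext fun Y => ⟨fun h => ⟨fun hc => ?_, h⟩, fun h => h.2⟩)
    have hd := det_eq Y
    have h' : Y.1 0 0 + Y.1 1 1 = 0 := h
    rw [hc, mul_zero, sub_zero] at hd
    exact hna (Y.1 0 0) (by linear_combination Y.1 0 0 * h' - hd)
  have cB : B.ncard = Fintype.card F * (Fintype.card F - 1) := by
    rw [← cA]
    have : B = (fun Y => X⁻¹ * Y) '' A := by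
      ext Y
      simp only [hA, hB, Set.mem_image, Set.mem_ofPred_eq]
      exact ⟨fun h => ⟨X * Y, h, inv_mul_cancel_left X Y⟩, by
        rintro ⟨Z, hZ, rfl⟩; rwa [mul_inv_cancel_left]⟩
    rw [this, Set.ncard_image_of_injective _ (mul_right_injective X⁻¹)]
  have cC : C.ncard = Fintype.card F + 1 := ncard_commute (not_eigen_of_tr hr hr2 hF htX)
  have cAB : (A ∩ B).ncard = Fintype.card F + 1 := by
    rw [← card_norm hsum (neg_ne_zero.2 (one_ne_zero (α := F))), ← Nat.card_coe_set_eq]
    refine Nat.card_congr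
      { toFun := fun Y => ⟨(Y.1.1 0 0, Y.1.1 0 1), ?_⟩
        invFun := fun v => ⟨mk2 v.1.1 v.1.2 v.1.2 (-v.1.1) (by linear_combination -v.2), ?_, ?_⟩
        left_inv := fun Y => Subtype.ext (ext2 rfl rfl ?_ ?_)
        right_inv := fun v => rfl }
    · have hd := det_eq Y.1
      have h1 : Y.1.1 0 0 + Y.1.1 1 1 = 0 := Y.2.1
      have h2 : tr (X * Y.1) = 0 := Y.2.2
      rw [htXY] at h2
      linear_combination -hd + Y.1.1 0 0 * h1 - Y.1.1 0 1 * h2
    · show tr _ = 0
      unfold tr; rw [mk2_00, mk2_11]; ring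
    · show tr (X * _) = 0
      rw [htXY, mk2_10, mk2_01, sub_self]
    · have h2 : tr (X * Y.1) = 0 := Y.2.2
      rw [htXY] at h2
      rw [mk2_10]
      exact (sub_eq_zero.1 h2).symm
    · have h1 : Y.1.1 0 0 + Y.1.1 1 1 = 0 := Y.2.1
      rw [mk2_11]
      linear_combination -h1
  have h2ne : (2 : F) ≠ 0 := fun h => one_ne_zero (α := F) (by linear_combination h3 - h)
  have h1ne : (1 : S2) ≠ -1 := fun h => by
    have := congrArg (fun Z : S2 => Z.1 0 0) h
    simp [neg_entries] at this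
    exact h2ne (by linear_combination this)
  have cBC : B ∩ C = {1, -1} := by
    ext Y
    simp only [hB, hC, Set.mem_inter_iff, Set.mem_ofPred_eq, hcomm, htXY, Set.mem_insert_iff,
      Set.mem_singleton_iff]
    constructor
    · rintro ⟨h1, e1, e2⟩
      have e01 : Y.1 0 1 = 0 := (mul_eq_zero.1
        (show (2 : F) * Y.1 0 1 = 0 by linear_combination e2 - h1)).resolve_left h2ne
      have e10 : Y.1 1 0 = 0 := by rw [e2, e01, neg_zero]
      have hd := det_eq Y
      rw [e1, e01, zero_mul, sub_zero] at hd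
      rcases mul_self_eq_one_iff.1 hd with f | f
      · exact Or.inl (ext2 (by simp [f]) (by simp [e01]) (by simp [e10]) (by simp [e1, f]))
      · exact Or.inr (ext2 (by simp [f, neg_entries]) (by simp [e01, neg_entries])
          (by simp [e10, neg_entries]) (by simp [e1, f, neg_entries]))
    · rintro (rfl | rfl) <;> simp [neg_entries]
  have cAC : A ∩ C = {X, -X} := by
    ext Y
    simp only [hA, hC, Set.mem_inter_iff, Set.mem_ofPred_eq, hcomm, Set.mem_insert_iff,
      Set.mem_singleton_iff, tr]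
    constructor
    · rintro ⟨h1, e1, e2⟩
      have e00 : Y.1 0 0 = 0 := (mul_eq_zero.1
        (show (2 : F) * Y.1 0 0 = 0 by linear_combination h1 - e1)).resolve_left h2ne
      have e11 : Y.1 1 1 = 0 := e1.trans e00
      have hd := det_eq Y
      rw [e00, e2, zero_mul, zero_sub, mul_neg, neg_neg] at hd
      rcases mul_self_eq_one_iff.1 hd with f | f
      · exact Or.inl (ext2 (by rw [e00, h00]) (by rw [f, h01]) (by rw [e2, f, h10]) (by rw [e11, h11]))
      · exact Or.inr (ext2 (by simp [e00, h00, neg_entries]) (by simp [f, h01, neg_entries])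
          (by simp [e2, f, h10, neg_entries]) (by simp [e11, h11, neg_entries]))
    · rintro (rfl | rfl) <;> simp [neg_entries, h00, h01, h10, h11]
  have hXne : X ≠ -X := fun h => by
    have := congrArg (fun Z : S2 => Z.1 0 1) h
    simp [neg_entries, h01] at this
    exact h2ne (by linear_combination this)
  have cABC : (A ∩ B) ∩ C = ∅ := by
    refine Set.eq_empty_iff_forall_notMem.2 fun Y ⟨⟨h1, h2⟩, h3'⟩ => ?_
    have hY : Y ∈ A ∩ C := ⟨h1, h3'⟩
    rw [cAC] at hY
    have h2' : tr (X * Y) = 0 := h2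
    rw [htXY] at h2'
    rcases hY with rfl | rfl
    · rw [h10, h01] at h2'; exact h2ne (by linear_combination -h2')
    · rw [neg_entries, neg_entries, h10, h01] at h2'; exact h2ne (by linear_combination h2')
  have cD : D.ncard = 4 * (Fintype.card F + 1) := by
    classical
    have hfib : ∀ s t : F, s * s = 1 → t * t = 1 →
        {Y : S2 | tr Y = s ∧ tr (X * Y) = t}.ncard = Fintype.card F + 1 := by
      intro s t hs ht
      rw [← card_norm hsum (one_ne_zero (α := F)), ← Nat.card_coe_set_eq]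
      refine Nat.card_congr
        { toFun := fun Y => ⟨(Y.1.1 0 0 + s, Y.1.1 0 1 - t), ?_⟩
          invFun := fun v => ⟨mk2 (v.1.1 - s) (v.1.2 + t) (v.1.2 + 2 * t) (2 * s - v.1.1) ?_, ?_, ?_⟩
          left_inv := fun Y => Subtype.ext (ext2 ?_ ?_ ?_ ?_)
          right_inv := fun v => Subtype.ext (Prod.ext ?_ ?_) }
      · have hd := det_eq Y.1
        have h1 : Y.1.1 0 0 + Y.1.1 1 1 = s := Y.2.1
        have h2 : tr (X * Y.1) = t := Y.2.2
        rw [htXY] at h2
        linear_combination -hd + Y.1.1 0 0 * h1 - Y.1.1 0 1 * h2 + hs + ht +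
          (Y.1.1 0 0 * s - Y.1.1 0 1 * t) * h3
      · have hv := v.2
        linear_combination -hv - 2 * hs - 2 * ht + (v.1.1 * s - v.1.2 * t - 2) * h3
      · show tr _ = s
        unfold tr; rw [mk2_00, mk2_11]; ring
      · show tr (X * _) = t
        rw [htXY, mk2_10, mk2_01]; ring
      · rw [mk2_00]; ring
      · rw [mk2_01]; ring
      · have h2 : tr (X * Y.1) = t := Y.2.2
        rw [htXY] at h2
        rw [mk2_10]
        linear_combination -h2
      · have h1 : Y.1.1 0 0 + Y.1.1 1 1 = s := Y.2.1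
        rw [mk2_11]
        linear_combination -h1
      · dsimp only; rw [mk2_00]; ring
      · dsimp only; rw [mk2_01]; ring
    set T : F → F → Set S2 := fun s t => {Y | tr Y = s ∧ tr (X * Y) = t} with hT
    have hne : (1 : F) ≠ -1 := fun h => h2ne (by linear_combination h)
    have e : D = (T 1 1 ∪ T 1 (-1)) ∪ (T (-1) 1 ∪ T (-1) (-1)) := by
      ext Y
      simp only [hD, hT, Set.mem_ofPred_eq, Set.mem_union]
      tauto
    rw [e, Set.ncard_union_eq, Set.ncard_union_eq, Set.ncard_union_eq, hT,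
      hfib 1 1 (by ring) (by ring), hfib 1 (-1) (by ring) (by ring),
      hfib (-1) 1 (by ring) (by ring), hfib (-1) (-1) (by ring) (by ring)]
    · ring
    · exact Set.disjoint_left.2 fun Y h h' => hne (h.2.symm.trans h'.2)
    · exact Set.disjoint_left.2 fun Y h h' => hne (h.2.symm.trans h'.2)
    · refine Set.disjoint_left.2 fun Y h h' => hne ?_
      rcases h with h | h <;> rcases h' with h' | h' <;> exact h.1.symm.trans h'.1
  have hdis : Disjoint (A ∪ B ∪ C) D := by
    refine Set.disjoint_left.2 fun Y h ⟨h1, h2⟩ => ?_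
    have z : ∀ w : F, w = 0 → ¬ (w = 1 ∨ w = -1) := by
      rintro w rfl (e | e)
      · exact zero_ne_one e
      · exact zero_ne_one (α := F) (by linear_combination -e)
    rcases h with (h | h) | h
    · exact z _ h h1
    · exact z _ h h2
    · obtain ⟨e1, e2⟩ := (hcomm Y).1 h
      have hd := det_eq Y
      have hs : tr Y * tr Y = 1 := by rcases h1 with e | e <;> rw [e] <;> ring
      have ht : tr (X * Y) * tr (X * Y) = 1 := by rcases h2 with e | e <;> rw [e] <;> ring
      rw [htXY] at ht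
      unfold tr at hs
      rw [e1, e2] at hd
      rw [e1] at hs; rw [e2] at ht
      exact one_ne_zero (α := F) (by linear_combination 4 * hd - hs - ht + h3)
  rw [eq, Set.ncard_union_eq hdis, cD]
  have u1 := Set.ncard_union_add_ncard_inter A B
  have u2 := Set.ncard_union_add_ncard_inter (A ∪ B) C
  have u3 := Set.ncard_union_add_ncard_inter (A ∩ C) (B ∩ C)
  rw [← Set.union_inter_distrib_right, show A ∩ C ∩ (B ∩ C) = A ∩ B ∩ C by
    ext; simp only [Set.mem_inter_iff]; tauto, cABC, Set.ncard_empty, cAC, cBC,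
    Set.ncard_pair hXne, Set.ncard_pair h1ne] at u3
  rw [cA, cB, cAB] at u1
  rw [cC] at u2
  obtain ⟨n, hn⟩ : ∃ n, Fintype.card F = n + 1 :=
    ⟨Fintype.card F - 1, by have := Fintype.card_pos (α := F); omega⟩
  rw [hn, Nat.add_sub_cancel] at u1
  rw [hn] at u2 ⊢
  nlinarith

theorem sol_unipotent {X : S2} (h10 : X.1 1 0 = 0) (h00 : X.1 0 0 = 1) (h11 : X.1 1 1 = 1)
    (he : X.1 0 1 ≠ 0) :
    {Y : S2 | Sol (π2 X) (π2 Y)}.ncard = Fintype.card F * (Fintype.card F + 5) := by
  classical
  have h3 := three_zero (F := F)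
  set e := X.1 0 1 with hedef
  have h2ne : (2 : F) ≠ 0 := fun h => one_ne_zero (α := F) (by linear_combination h3 - h)
  have htX : tr X = -1 := by unfold tr; rw [h00, h11]; linear_combination h3
  have hxx : π2 X * π2 X ≠ 1 := fun h => by
    rcases tr_of_sq h with k | ⟨k, -, -⟩
    · rw [htX] at k; exact one_ne_zero (α := F) (by linear_combination -k)
    · exact he k
  have hXY : ∀ Y : S2, (X * Y).1 1 0 = Y.1 1 0 ∧ tr (X * Y) = tr Y + e * Y.1 1 0 := fun Y => by
    unfold tr
    rw [mul10, mul00, mul11, h10, h00, h11, ← hedef]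
    exact ⟨by ring, by ring⟩
  have htX' : tr X = 1 ∨ tr X = -1 := Or.inr htX
  have hx3 := cube_of_tr hr hr2 hF htX'
  set T : F → F → Set S2 := fun c s => {Y | Y.1 1 0 = c ∧ tr Y = s} with hT
  set U : F → Set S2 := fun c => (T c 0 ∪ T c 1) ∪ T c (-1) with hU
  have eq : {Y : S2 | Sol (π2 X) (π2 Y)} = {Y | Y.1 1 0 = 0} ∪ (U e⁻¹ ∪ U (-e⁻¹)) := by
    ext Y
    simp only [hU, hT, Set.mem_ofPred_eq, Set.mem_union]
    by_cases hc : Y.1 1 0 = 0
    · exact ⟨fun _ => Or.inl hc, fun _ => solvable_upper h10 hc⟩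
    simp only [hc, false_or]
    constructor
    · intro h
      rcases pair_cases 3 hr (Or.inr ⟨rfl, hr2⟩) hF h with ⟨v, hv, ⟨a, ha⟩, b, hb⟩ | h |
        ⟨-, -, h2, h4⟩
      · exfalso
        obtain ⟨e0, e1⟩ := eigen_entries ha
        obtain ⟨-, f1⟩ := eigen_entries hb
        rw [h00, ← hedef] at e0
        rw [h10, h11] at e1
        by_cases h1 : v 1 = 0
        · have h0 : v 0 ≠ 0 := fun e => hv (funext fun i => by fin_cases i <;> assumption)
          rw [h1] at f1
          exact hc ((mul_eq_zero.1 (show Y.1 1 0 * v 0 = 0 by linear_combination f1)).resolve_right h0)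
        · have : a = 1 := mul_right_cancel₀ h1 (by linear_combination -e1)
          subst this
          exact h1 ((mul_eq_zero.1 (show e * v 1 = 0 by linear_combination e0)).resolve_left he)
      · exfalso
        obtain ⟨i0, i1, i2, i3⟩ := inv_entries X
        rcases (conj_iff hxx).1 (h.2 hxx) with k | k <;>
          have k' := congrArg (fun Z : S2 => Z.1 0 0) k <;>
          simp only [mul00, h00, h10, h11, i0, i1, ← hedef] at k'
        · exact hc ((mul_eq_zero.1 (show e * Y.1 1 0 = 0 by linear_combination -k')).resolve_left he)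
        · exact hc ((mul_eq_zero.1 (show e * Y.1 1 0 = 0 by linear_combination k')).resolve_left he)
      · rw [← QuotientGroup.mk_mul] at h4
        have s1 := tr_small hr hr2 hF (orders_small hr hr2 hF h2)
        have s2 := tr_small hr hr2 hF (orders_small hr hr2 hF h4)
        rw [(hXY Y).2] at s2
        have hec : e * Y.1 1 0 = 1 ∨ e * Y.1 1 0 = -1 := by
          have hne : e * Y.1 1 0 ≠ 0 := mul_ne_zero he hc
          set w := e * Y.1 1 0
          rcases s1 with a | a | a <;> rcases s2 with b | b | b <;> rw [a] at b <;>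
            first
              | exact absurd (by linear_combination b) hne
              | exact Or.inl (by linear_combination b)
              | exact Or.inr (by linear_combination b)
              | exact Or.inl (by linear_combination b - h3)
              | exact Or.inl (by linear_combination b + h3)
              | exact Or.inr (by linear_combination b - h3)
              | exact Or.inr (by linear_combination b + h3)
        rcases hec with k | k
        · have : Y.1 1 0 = e⁻¹ := (eq_inv_of_mul_eq_one_right k)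
          left; tauto
        · have : Y.1 1 0 = -e⁻¹ := by
            rw [← eq_inv_of_mul_eq_one_right (show e * -Y.1 1 0 = 1 by linear_combination -k), neg_neg]
          right; tauto
    · intro h
      obtain ⟨hs, hec⟩ : (tr Y = 0 ∨ tr Y = 1 ∨ tr Y = -1) ∧
          (e * Y.1 1 0 = 1 ∨ e * Y.1 1 0 = -1) := by
        rcases h with ((⟨hcc, hs⟩ | ⟨hcc, hs⟩) | ⟨hcc, hs⟩) | ((⟨hcc, hs⟩ | ⟨hcc, hs⟩) | ⟨hcc, hs⟩) <;>
          refine ⟨by tauto, ?_⟩ <;>
          first
            | exact Or.inl (by rw [hcc, mul_inv_cancel₀ he])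
            | exact Or.inr (by rw [hcc, mul_neg, mul_inv_cancel₀ he])
      -- some product of `Y` with a power of `X` is an involution
      obtain ⟨k, hk⟩ : ∃ k : ℕ, tr Y + k * (e * Y.1 1 0) = 0 := by
        rcases hs with a | a | a <;> rcases hec with b | b <;> rw [a, b]
        · exact ⟨0, by simp⟩
        · exact ⟨0, by simp⟩
        · exact ⟨2, by push_cast; linear_combination h3⟩
        · exact ⟨1, by push_cast; ring⟩
        · exact ⟨1, by push_cast; ring⟩
        · exact ⟨2, by push_cast; linear_combination -h3⟩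
      obtain ⟨p00, p11, p10, p01⟩ := upper_pow h10 (h11.trans h00.symm) k
      rw [h00, one_pow] at p00 p11 p01
      rw [← hedef, mul_one, mul_one] at p01
      set W := X ^ k * Y with hW
      have htW : tr W = 0 := by
        rw [← hk]; unfold tr
        rw [hW, mul00, mul11, p00, p11, p10, p01]; ring
      have htXW : tr (X * W) = 1 ∨ tr (X * W) = -1 := by
        rw [(hXY W).2, htW, hW, mul10, p10, p11, zero_mul, zero_add, one_mul, zero_add]
        exact hec
      have hs' : Sol (π2 W) (π2 X) := by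
        refine solvable_of_triangle (sq_eq_one_of_tr htW) hx3 ?_
        rw [← QuotientGroup.mk_mul]
        refine cube_of_tr hr hr2 hF ?_
        rw [show tr (W * X) = tr (X * W) by unfold tr; simp only [mul00, mul11]; ring]
        exact htXW
      have e' : Subgroup.closure ({π2 W, π2 X} : Set G2) = Subgroup.closure {π2 X, π2 Y} := by
        refine le_antisymm ((Subgroup.closure_le _).2 ?_) ((Subgroup.closure_le _).2 ?_)
        · rintro z (rfl | rfl)
          · rw [hW, QuotientGroup.mk_mul, QuotientGroup.mk_pow]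
            exact Subgroup.mul_mem _ (Subgroup.pow_mem _ (Subgroup.subset_closure (by simp)) _)
              (Subgroup.subset_closure (by simp))
          · exact Subgroup.subset_closure (by simp)
        · rintro z (rfl | rfl)
          · exact Subgroup.subset_closure (by simp)
          · rw [show π2 Y = (π2 X ^ k)⁻¹ * π2 W by
              rw [hW, QuotientGroup.mk_mul, QuotientGroup.mk_pow, inv_mul_cancel_left]]
            exact Subgroup.mul_mem _
              (Subgroup.inv_mem _ (Subgroup.pow_mem _ (Subgroup.subset_closure (by simp)) _))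
              (Subgroup.subset_closure (by simp))
      unfold Sol at hs' ⊢
      exact e' ▸ hs'
  have hU3 : ∀ c : F, c ≠ 0 → (U c).ncard = 3 * Fintype.card F := fun c hc => by
    rw [hU, hT, Set.ncard_union_eq, Set.ncard_union_eq, ncard_trace_fix hc, ncard_trace_fix hc,
      ncard_trace_fix hc]
    · ring
    · exact Set.disjoint_left.2 fun Y h h' => zero_ne_one (α := F) (h.2.symm.trans h'.2)
    · refine Set.disjoint_left.2 fun Y h h' => ?_
      rcases h with h | h
      · exact zero_ne_one (α := F) (by linear_combination -(h.2.symm.trans h'.2))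
      · exact h2ne (by linear_combination h.2.symm.trans h'.2)
  have hc_of : ∀ c Y, Y ∈ U c → Y.1 1 0 = c := fun c Y h => h.elim (fun h => h.elim (·.1) (·.1)) (·.1)
  have hei : e⁻¹ ≠ 0 := inv_ne_zero he
  rw [eq, Set.ncard_union_eq, Set.ncard_union_eq, ncard_upper, hU3 _ hei, hU3 _ (neg_ne_zero.2 hei)]
  · obtain ⟨n, hn⟩ : ∃ n, Fintype.card F = n + 1 :=
      ⟨Fintype.card F - 1, by have := Fintype.card_pos (α := F); omega⟩
    rw [hn, Nat.add_sub_cancel]; ring
  · refine Set.disjoint_left.2 fun Y h h' => ?_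
    have := (hc_of _ Y h).symm.trans (hc_of _ Y h')
    exact mul_ne_zero h2ne hei (by linear_combination this)
  · refine Set.disjoint_left.2 fun Y (h : Y.1 1 0 = 0) h' => ?_
    rcases h' with h' | h'
    · exact hei ((hc_of _ Y h').symm.trans h)
    · exact hei (neg_eq_zero.1 ((hc_of _ Y h').symm.trans h))

theorem exists_conj_J {X : S2} (hne : ¬ HasEigen X) (ht : tr X = 0) :
    ∃ P : S2, (P * X * P⁻¹).1 0 0 = 0 ∧ (P * X * P⁻¹).1 0 1 = 1 ∧
      (P * X * P⁻¹).1 1 0 = -1 ∧ (P * X * P⁻¹).1 1 1 = 0 := by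
  have hc : X.1 1 0 ≠ 0 := fun h => hne (eigen_of_root (a := X.1 0 0) (by
    have := det_eq X
    rw [h, mul_zero, sub_zero] at this
    unfold tr
    linear_combination -this))
  have hd := det_eq X
  have hani : ∀ a : F, a * a + (X.1 1 1 - X.1 0 0) / X.1 1 0 * a + -(X.1 0 1 / X.1 1 0) ≠ 0 := by
    intro a ha
    refine hne (eigen_of_root (a := X.1 1 0 * a + X.1 1 1) ?_)
    field_simp at ha
    unfold tr
    linear_combination X.1 1 0 * ha - hd
  have hk : -(X.1 1 0)⁻¹ ≠ 0 := neg_ne_zero.2 (inv_ne_zero hc)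
  have hpos : 0 < Nat.card {v : F × F // v.1 * v.1 + (X.1 1 1 - X.1 0 0) / X.1 1 0 * v.1 * v.2 +
      -(X.1 0 1 / X.1 1 0) * v.2 * v.2 = -(X.1 1 0)⁻¹} := by
    rw [card_norm hani hk]; omega
  obtain ⟨⟨v0, v1⟩, hv⟩ := (Nat.card_pos_iff.1 hpos).1
  simp only at hv
  field_simp at hv
  have h' : X.1 0 0 + X.1 1 1 = 0 := ht
  set w0 := -(X.1 0 0 * v0 + X.1 0 1 * v1) with hw0
  set w1 := -(X.1 1 0 * v0 + X.1 1 1 * v1) with hw1
  have hdet : w1 * v0 - -w0 * -v1 = 1 := by rw [hw0, hw1]; linear_combination -hv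
  refine ⟨mk2 w1 (-w0) (-v1) v0 hdet, ?_⟩
  obtain ⟨i0, i1, i2, i3⟩ := inv_entries (mk2 w1 (-w0) (-v1) v0 hdet)
  rw [mk2_11] at i0; rw [mk2_01] at i1; rw [mk2_10] at i2; rw [mk2_00] at i3
  have p0 : X.1 0 0 * w0 + X.1 0 1 * w1 = v0 := by
    rw [hw0, hw1]; linear_combination v0 * hd - (X.1 0 0 * v0 + X.1 0 1 * v1) * h'
  have p1 : X.1 1 0 * w0 + X.1 1 1 * w1 = v1 := by
    rw [hw0, hw1]; linear_combination v1 * hd - (X.1 1 0 * v0 + X.1 1 1 * v1) * h'
  have q0 : X.1 0 0 * v0 + X.1 0 1 * v1 = -w0 := by rw [hw0, neg_neg]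
  have q1 : X.1 1 0 * v0 + X.1 1 1 * v1 = -w1 := by rw [hw1, neg_neg]
  refine ⟨?_, ?_, ?_, ?_⟩ <;>
    simp only [mul00, mul01, mul10, mul11, mk2_00, mk2_01, mk2_10, mk2_11, i0, i1, i2, i3]
  · linear_combination w1 * q0 - w0 * q1
  · linear_combination w1 * p0 - w0 * p1 + hdet
  · linear_combination -v1 * q0 + v0 * q1 - hdet
  · linear_combination -v1 * p0 + v0 * p1

/-- The four counts. -/
theorem card_sol_three (x : G2) :
    (orderOf x = 2 → Nat.card {y : G2 // Sol x y} = 3 ^ r * (3 ^ r + 1)) ∧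
    (orderOf x = 3 → 2 * Nat.card {y : G2 // Sol x y} = 3 ^ r * (3 ^ r + 5)) ∧
    (x ≠ 1 → orderOf x ≠ 2 → orderOf x ∣ 3 ^ r - 1 →
      Nat.card {y : G2 // Sol x y} = 3 ^ r * (3 ^ r - 1)) ∧
    (x ≠ 1 → orderOf x ≠ 2 → orderOf x ∣ 3 ^ r + 1 →
      Nat.card {y : G2 // Sol x y} = 3 ^ r + 1) := by
  obtain ⟨hm8, hm3⟩ := card_mod hr hr2 hF
  rw [hF] at hm8 hm3
  obtain ⟨g, X, hgX, hcase⟩ := normal_form 3 x
  have hcount : 2 * Nat.card {y : G2 // Sol x y} = {Y : S2 | Sol (π2 X) (π2 Y)}.ncard := by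
    rw [← card_sol_conj g x, hgX, ← Nat.card_coe_set_eq]
    have := card_fibres (F := F) rfl (fun y => Sol (π2 X) y)
    rw [show Nat.gcd 2 (Fintype.card F - 1) = 2 from
      Nat.gcd_eq_left (by rw [hF]; omega)] at this
    exact this.symm
  have hX1 : ∀ n, π2 X ^ n = 1 ↔ x ^ n = 1 := fun n => by
    rw [← hgX, conj_pow, conj_eq_one_iff]
  have hnot : ∀ {a b : ℕ}, orderOf x ∣ a → orderOf x ∣ b → orderOf x ∣ Nat.gcd a b :=
    fun ha hb => Nat.dvd_gcd ha hb
  have gm3 : Nat.gcd 3 (3 ^ r - 1) = 1 :=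
    (Nat.prime_three.coprime_iff_not_dvd).2 (by omega)
  have gp3 : Nat.gcd 3 (3 ^ r + 1) = 1 :=
    (Nat.prime_three.coprime_iff_not_dvd).2 (by omega)
  have gmp : Nat.gcd (3 ^ r - 1) (3 ^ r + 1) ∣ 2 := by
    have := Nat.dvd_sub (Nat.gcd_dvd_right (3 ^ r - 1) (3 ^ r + 1))
      (Nat.gcd_dvd_left (3 ^ r - 1) (3 ^ r + 1))
    rwa [show 3 ^ r + 1 - (3 ^ r - 1) = 2 by omega] at this
  rw [hF] at hcase
  have hcases : x ≠ 1 → orderOf x ≠ 2 → ∀ {a : ℕ}, orderOf x ∣ a → Nat.gcd 3 a = 1 →
      π2 X * π2 X ≠ 1 ∧ π2 X ^ 24 ≠ 1 := by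
    intro h1 h2 a hd hg
    have k2 : π2 X * π2 X ≠ 1 := fun h => by
      have := orderOf_dvd_of_pow_eq_one ((hX1 2).1 (by rw [sq]; exact h))
      rcases (Nat.dvd_prime Nat.prime_two).1 this with e | e
      · exact h1 (orderOf_eq_one_iff.1 e)
      · exact h2 e
    refine ⟨k2, fun h => ?_⟩
    rcases orders_small hr hr2 hF h with e | e
    · exact k2 e
    · exact h1 (orderOf_eq_one_iff.1 (Nat.dvd_one.1
        (hg ▸ hnot (orderOf_dvd_of_pow_eq_one ((hX1 3).1 e)) hd)))
  refine ⟨fun h2 => ?_, fun h3 => ?_, fun h1 h2 hd => ?_, fun h1 h2 hd => ?_⟩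
  · have hxx : π2 X * π2 X = 1 := by
      rw [← sq, hX1]
      exact (congrArg (x ^ ·) h2.symm).trans (pow_orderOf_eq_one x)
    have hx1 : π2 X ≠ 1 := fun e => by
      have : x = 1 := by simpa using (hX1 1).1 (by rw [e, one_pow])
      rw [this, orderOf_one] at h2; omega
    have ht : tr X = 0 := (tr_of_sq hxx).resolve_right fun ⟨a, b, c⟩ => hx1 (by
      have hd := det_eq X
      rw [a, b, ← c, mul_zero, sub_zero] at hd
      rw [mk_eq_one]
      rcases mul_self_eq_one_iff.1 hd with f | f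
      · exact Or.inl (ext2 (by simp [f]) (by simp [a]) (by simp [b]) (by simp [← c, f]))
      · exact Or.inr (ext2 (by simp [f, neg_entries]) (by simp [a, neg_entries])
          (by simp [b, neg_entries]) (by simp [← c, f, neg_entries])))
    obtain ⟨P, k00, k01, k10, k11⟩ := exists_conj_J hr hr2 hF (not_eigen_of_tr hr hr2 hF ht) ht
    have hs := sol_involution_three hr hr2 hF k00 k01 k10 k11
    have hc2 : 2 * Nat.card {y : G2 // Sol x y} =
        {Y : S2 | Sol (π2 (P * X * P⁻¹)) (π2 Y)}.ncard := by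
      rw [← card_sol_conj (π2 P * g) x, show π2 P * g * x * (π2 P * g)⁻¹ = π2 (P * X * P⁻¹) by
        rw [QuotientGroup.mk_mul, QuotientGroup.mk_mul, QuotientGroup.mk_inv, ← hgX]; group,
        ← Nat.card_coe_set_eq]
      have := card_fibres (F := F) rfl (fun y => Sol (π2 (P * X * P⁻¹)) y)
      rw [show Nat.gcd 2 (Fintype.card F - 1) = 2 from
        Nat.gcd_eq_left (by rw [hF]; omega)] at this
      exact this.symm
    rw [hs, hF] at hc2
    omega
  · have hx1 : x ≠ 1 := fun e => by rw [e, orderOf_one] at h3; omega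
    rcases hcase with ⟨h10, he, -⟩ | ⟨-, -, -, hp⟩ | ⟨-, hp⟩
    · have hd := det_eq X
      rw [h10, he, mul_zero, sub_zero] at hd
      have h01 : X.1 0 1 ≠ 0 := fun h01 => by
        refine hx1 (pow_one x ▸ (hX1 1).1 ?_)
        rw [pow_one, mk_eq_one]
        rcases mul_self_eq_one_iff.1 hd with f | f
        · exact Or.inl (ext2 (by simp [f]) (by simp [h01]) (by simp [h10]) (by simp [he, f]))
        · exact Or.inr (ext2 (by simp [f, neg_entries]) (by simp [h01, neg_entries])
            (by simp [h10, neg_entries]) (by simp [he, f, neg_entries]))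
      rw [hcount]
      rcases mul_self_eq_one_iff.1 hd with f | f
      · rw [sol_unipotent hr hr2 hF h10 f (he.trans f) h01, hF]
      · rw [← mk_neg X, sol_unipotent hr hr2 hF (by rw [neg_entries, h10, neg_zero])
          (by rw [neg_entries, f, neg_neg]) (by rw [neg_entries, he, f, neg_neg])
          (by rw [neg_entries]; exact neg_ne_zero.2 h01), hF]
    · exact absurd (orderOf_eq_one_iff.1 (Nat.dvd_one.1
        (gm3 ▸ hnot (dvd_of_eq h3) (orderOf_dvd_of_pow_eq_one hp)))) hx1
    · exact absurd (orderOf_eq_one_iff.1 (Nat.dvd_one.1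
        (gp3 ▸ hnot (dvd_of_eq h3) (orderOf_dvd_of_pow_eq_one hp)))) hx1
  · obtain ⟨k2, k24⟩ := hcases h1 h2 hd gm3
    rcases hcase with ⟨-, -, hp⟩ | ⟨h10, h01, hne, -⟩ | ⟨-, hp⟩
    · exact absurd (orderOf_eq_one_iff.1 (Nat.dvd_one.1
        (gm3 ▸ hnot (orderOf_dvd_of_pow_eq_one hp) hd))) h1
    · have := ncard_sol_split 3 hr (Or.inr ⟨rfl, hr2⟩) hF h10 h01 hne k2 (Or.inl k24)
      rw [← hcount, hF] at this
      rw [mul_assoc] at this
      omega
    · rcases (Nat.dvd_prime Nat.prime_two).1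
        ((hnot hd (orderOf_dvd_of_pow_eq_one hp)).trans gmp) with e | e
      · exact absurd (orderOf_eq_one_iff.1 e) h1
      · exact absurd e h2
  · obtain ⟨k2, k24⟩ := hcases h1 h2 hd gp3
    rcases hcase with ⟨-, -, hp⟩ | ⟨-, -, -, hp⟩ | ⟨hne, -⟩
    · exact absurd (orderOf_eq_one_iff.1 (Nat.dvd_one.1
        (gp3 ▸ hnot (orderOf_dvd_of_pow_eq_one hp) hd))) h1
    · rcases (Nat.dvd_prime Nat.prime_two).1
        ((hnot (orderOf_dvd_of_pow_eq_one hp) hd).trans gmp) with e | e
      · exact absurd (orderOf_eq_one_iff.1 e) h1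
      · exact absurd e h2
    · have := ncard_sol_nonsplit 3 hr (Or.inr ⟨rfl, hr2⟩) hF hne k2 (Or.inl k24)
      rw [← hcount, hF] at this
      omega

end CfsgLib.Known.Solub
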