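import Cfsg.Agent.Lib.Known.Solub.Matrices

/-!
# Normal forms in `PSL₂` and the solubilizers of semisimple elements
-/

set_option autoImplicit false
set_option linter.style.haveILetI false
set_option linter.unusedSectionVars false

namespace CfsgLib.Known.Solub

open Matrix CfsgLib.Classical.Dickson
open scoped MatrixGroups

variable {F : Type*} [Field F] [Fintype F]

local notation "G2" => ProjectiveSpecialLinearGroup (Fin 2) F
local notation "S2" => SpecialLinearGroup (Fin 2) F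
local notation "π2" => QuotientGroup.mk (s := Subgroup.center (SpecialLinearGroup (Fin 2) F))

theorem hasEigen_of_lower {X : S2} (h : X.1 0 1 = 0) : HasEigen X :=
  eigen_of_root (a := X.1 1 1) (by
    have := det_eq X
    rw [h, zero_mul, sub_zero] at this
    unfold tr
    linear_combination -this)

theorem neg_entries (X : S2) (i j : Fin 2) : (-X).1 i j = -(X.1 i j) := rfl

theorem one_entries : (1 : S2).1 0 0 = 1 ∧ (1 : S2).1 0 1 = 0 ∧ (1 : S2).1 1 0 = 0 ∧
    (1 : S2).1 1 1 = 1 := by simp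

/-- The centraliser of an element without eigenvector. -/
theorem ncard_commute {X : S2} (h : ¬ HasEigen X) :
    {Y : S2 | Y * X = X * Y}.ncard = Fintype.card F + 1 := by
  have hb : X.1 0 1 ≠ 0 := fun e => h (hasEigen_of_lower e)
  have hd := det_eq X
  rw [← card_norm (B := tr X) (C := 1)
      (fun a ha => h (eigen_of_root (a := -a) (by linear_combination ha))) (one_ne_zero (α := F)),
    ← Nat.card_coe_set_eq]
  have key : ∀ Y : ↥{Y : S2 | Y * X = X * Y},
      Y.1.1 1 0 = Y.1.1 0 1 / X.1 0 1 * X.1 1 0 ∧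
      Y.1.1 1 1 = Y.1.1 0 0 - Y.1.1 0 1 / X.1 0 1 * X.1 0 0 + Y.1.1 0 1 / X.1 0 1 * X.1 1 1 := by
    intro Y
    have e := Y.2
    have e00 := congrArg (fun Z : S2 => Z.1 0 0) e
    have e01 := congrArg (fun Z : S2 => Z.1 0 1) e
    simp only [mul00, mul01] at e00 e01
    constructor
    · field_simp
      linear_combination -e00
    · field_simp
      linear_combination -e01
  refine Nat.card_congr
    { toFun := fun Y => ⟨(Y.1.1 0 0 - Y.1.1 0 1 / X.1 0 1 * X.1 0 0, Y.1.1 0 1 / X.1 0 1), ?_⟩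
      invFun := fun v => ⟨mk2 (v.1.1 + v.1.2 * X.1 0 0) (v.1.2 * X.1 0 1) (v.1.2 * X.1 1 0)
          (v.1.1 + v.1.2 * X.1 1 1) ?_, ?_⟩
      left_inv := fun Y => Subtype.ext (ext2 ?_ ?_ ?_ ?_)
      right_inv := fun v => Subtype.ext (Prod.ext ?_ ?_) }
  · have := det_eq Y.1
    obtain ⟨k1, k2⟩ := key Y
    rw [k1, k2] at this
    unfold tr
    set w := Y.1.1 0 1 / X.1 0 1 with hw
    rw [show Y.1.1 0 1 = w * X.1 0 1 by rw [hw, div_mul_cancel₀ _ hb]] at this
    linear_combination this - w * w * hd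
  · have := v.2
    unfold tr at this
    linear_combination this + v.1.2 * v.1.2 * hd
  · show _ * X = X * _
    refine ext2 ?_ ?_ ?_ ?_ <;> simp only [mul00, mul01, mul10, mul11] <;> simp <;> ring
  · simp
  · simp [hb]
  · simpa using (key Y).1.symm
  · simpa using (key Y).2.symm
  · simp [hb]
  · simp [hb]

/-- The inverters of an element without eigenvector. -/
theorem ncard_invert {X : S2} (h : ¬ HasEigen X) :
    {Y : S2 | Y * X = X⁻¹ * Y}.ncard = Fintype.card F + 1 := by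
  have hb : X.1 0 1 ≠ 0 := fun e => h (hasEigen_of_lower e)
  have hd := det_eq X
  obtain ⟨i0, i1, i2, i3⟩ := inv_entries X
  rw [← card_norm (B := X.1 1 1 - X.1 0 0) (C := -(X.1 0 1 * X.1 1 0))
      (fun a ha => h (eigen_of_root (a := a + X.1 1 1) (by unfold tr; linear_combination ha + -hd)))
      (neg_ne_zero.2 (one_ne_zero (α := F))),
    ← Nat.card_coe_set_eq]
  have key : ∀ Y : ↥{Y : S2 | Y * X = X⁻¹ * Y},
      Y.1.1 1 1 = -Y.1.1 0 0 ∧ Y.1.1 1 0 =
        (Y.1.1 0 0 * (X.1 1 1 - X.1 0 0) - Y.1.1 0 1 * X.1 1 0) / X.1 0 1 := by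
    intro Y
    have e := Y.2
    have e00 := congrArg (fun Z : S2 => Z.1 0 0) e
    have e01 := congrArg (fun Z : S2 => Z.1 0 1) e
    simp only [mul00, mul01, i0, i1] at e00 e01
    constructor
    · refine mul_left_cancel₀ hb ?_
      linear_combination e01
    · field_simp
      linear_combination e00
  refine Nat.card_congr
    { toFun := fun Y => ⟨(Y.1.1 0 0, Y.1.1 0 1 / X.1 0 1), ?_⟩
      invFun := fun v => ⟨mk2 v.1.1 (v.1.2 * X.1 0 1)
          ((v.1.1 * (X.1 1 1 - X.1 0 0) - v.1.2 * X.1 0 1 * X.1 1 0) / X.1 0 1) (-v.1.1) ?_, ?_⟩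
      left_inv := fun Y => Subtype.ext (ext2 ?_ ?_ ?_ ?_)
      right_inv := fun v => Subtype.ext (Prod.ext ?_ ?_) }
  · have := det_eq Y.1
    obtain ⟨k1, k2⟩ := key Y
    rw [k1, k2] at this
    field_simp at this ⊢
    linear_combination -this
  · have := v.2
    field_simp
    linear_combination -this
  · show _ * X = X⁻¹ * _
    refine ext2 ?_ ?_ ?_ ?_ <;> simp only [mul00, mul01, mul10, mul11, i0, i1, i2, i3] <;>
      simp <;> field_simp <;> ring
  · rw [mk2_00]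
  · rw [mk2_01, div_mul_cancel₀ _ hb]
  · rw [mk2_10, div_mul_cancel₀ _ hb]
    exact (key Y).2.symm
  · rw [mk2_11]
    exact (key Y).1.symm
  · dsimp only; rw [mk2_00]
  · dsimp only; rw [mk2_01, mul_div_cancel_right₀ _ hb]

theorem pow_card_succ {X : S2} (h : ¬ HasEigen X) : X ^ (Fintype.card F + 1) = 1 := by
  have hmem : X ∈ Subgroup.centralizer ({X} : Set S2) := Subgroup.mem_centralizer_singleton_iff.2 rfl
  have hc : Nat.card ↥(Subgroup.centralizer ({X} : Set S2)) = Fintype.card F + 1 := by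
    rw [← ncard_commute h, ← Nat.card_coe_set_eq]
    exact Nat.card_congr (Equiv.setCongr (Set.ext fun Y => Subgroup.mem_centralizer_singleton_iff))
  rw [← hc]
  exact congrArg Subtype.val
    (pow_card_eq_one' (G := ↥(Subgroup.centralizer ({X} : Set S2))) (x := ⟨X, hmem⟩))

theorem upper_pow {X : S2} (h : X.1 1 0 = 0) (he : X.1 1 1 = X.1 0 0) :
    ∀ n : ℕ, (X ^ n).1 0 0 = X.1 0 0 ^ n ∧ (X ^ n).1 1 1 = X.1 0 0 ^ n ∧ (X ^ n).1 1 0 = 0 ∧
      (X ^ n).1 0 1 * X.1 0 0 = n * X.1 0 1 * X.1 0 0 ^ n := by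
  intro n
  induction n with
  | zero => simp
  | succ n ih =>
    obtain ⟨a, b, c, d⟩ := ih
    rw [pow_succ, mul00, mul01, mul10, mul11, a, b, c, h, he]
    refine ⟨by ring, by ring, by ring, ?_⟩
    push_cast
    linear_combination X.1 0 0 * d

theorem diag_pow {X : S2} (h : X.1 1 0 = 0) (h' : X.1 0 1 = 0) :
    ∀ n : ℕ, (X ^ n).1 0 0 = X.1 0 0 ^ n ∧ (X ^ n).1 1 1 = X.1 1 1 ^ n ∧ (X ^ n).1 1 0 = 0 ∧
      (X ^ n).1 0 1 = 0 := by
  intro n
  induction n with
  | zero => simp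
  | succ n ih =>
    obtain ⟨a, b, c, d⟩ := ih
    rw [pow_succ, mul00, mul01, mul10, mul11, a, b, c, d, h, h']
    exact ⟨by ring, by ring, by ring, by ring⟩

/-- Every element is conjugate to a unipotent (up to sign), split or non-split one. -/
theorem normal_form (p : ℕ) [Fact p.Prime] [CharP F p] (x : G2) :
    ∃ (g : G2) (X : S2), g * x * g⁻¹ = π2 X ∧
      ((X.1 1 0 = 0 ∧ X.1 1 1 = X.1 0 0 ∧ x ^ p = 1) ∨
        (X.1 1 0 = 0 ∧ X.1 0 1 = 0 ∧ X.1 0 0 ≠ X.1 1 1 ∧ x ^ (Fintype.card F - 1) = 1) ∨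
        (¬ HasEigen X ∧ x ^ (Fintype.card F + 1) = 1)) := by
  obtain ⟨X, rfl⟩ := QuotientGroup.mk_surjective x
  by_cases h : HasEigen X
  swap
  · exact ⟨1, X, by simp, Or.inr (Or.inr ⟨h, by
      rw [← QuotientGroup.mk_pow, pow_card_succ h, QuotientGroup.mk_one]⟩)⟩
  obtain ⟨P, hP⟩ := exists_upper h
  have hpow : ∀ (g : G2) (n : ℕ), (g * π2 X * g⁻¹) ^ n = 1 → π2 X ^ n = 1 := fun g n e => by
    rwa [conj_pow, conj_eq_one_iff] at e
  set Z := P * X * P⁻¹ with hZ
  have hd := det_eq Z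
  rw [hP, mul_zero, sub_zero] at hd
  by_cases he : Z.1 1 1 = Z.1 0 0
  · refine ⟨π2 P, Z, rfl, Or.inl ⟨hP, he, hpow (π2 P) p ?_⟩⟩
    show π2 Z ^ p = 1
    rw [← QuotientGroup.mk_pow, mk_eq_one]
    obtain ⟨a, b, c, d⟩ := upper_pow hP he p
    rw [CharP.cast_eq_zero, zero_mul, zero_mul] at d
    rw [he] at hd
    have d' : (Z ^ p).1 0 1 = 0 := (mul_eq_zero.1 d).resolve_right (left_ne_zero_of_mul_eq_one hd)
    rcases mul_self_eq_one_iff.1 hd with e | e
    · exact Or.inl (ext2 (by rw [a, e]; simp) (by rw [d']; simp) (by rw [c]; simp)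
        (by rw [b, e]; simp))
    · rcases neg_one_pow_eq_or F p with f | f
      · exact Or.inl (ext2 (by rw [a, e, f]; simp) (by rw [d']; simp) (by rw [c]; simp)
          (by rw [b, e, f]; simp))
      · exact Or.inr (ext2 (by rw [a, e, f]; simp [neg_entries]) (by rw [d']; simp [neg_entries])
          (by rw [c]; simp [neg_entries]) (by rw [b, e, f]; simp [neg_entries]))
  · obtain ⟨P', h1, h2, h3, h4⟩ := exists_diag hP (Ne.symm he)
    set W := P' * Z * P'⁻¹ with hW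
    refine ⟨π2 P' * π2 P, W, ?_, Or.inr (Or.inl ⟨h1, h2, by rw [h3, h4]; exact Ne.symm he,
      hpow (π2 P' * π2 P) _ ?_⟩)⟩
    · rw [hW, hZ]
      simp only [QuotientGroup.mk_mul, QuotientGroup.mk_inv]
      group
    · rw [show π2 P' * π2 P * π2 X * (π2 P' * π2 P)⁻¹ = π2 W by
        rw [hW, hZ]; simp only [QuotientGroup.mk_mul, QuotientGroup.mk_inv]; group,
        ← QuotientGroup.mk_pow, mk_eq_one]
      obtain ⟨a, b, c, d⟩ := diag_pow h1 h2 (Fintype.card F - 1)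
      refine Or.inl (ext2 ?_ (by rw [d]; simp) (by rw [c]; simp) ?_)
      · rw [a, h3, FiniteField.pow_card_sub_one_eq_one _ (left_ne_zero_of_mul_eq_one hd)]; simp
      · rw [b, h4, FiniteField.pow_card_sub_one_eq_one _ (right_ne_zero_of_mul_eq_one hd)]; simp

/-! ### Translations -/

theorem mul_self_entries (Y : S2) : (Y * Y).1 0 0 = Y.1 0 0 * tr Y - 1 ∧
    (Y * Y).1 0 1 = Y.1 0 1 * tr Y ∧ (Y * Y).1 1 0 = Y.1 1 0 * tr Y ∧
    (Y * Y).1 1 1 = Y.1 1 1 * tr Y - 1 := by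
  have hd := det_eq Y
  unfold tr
  rw [mul00, mul01, mul10, mul11]
  exact ⟨by linear_combination -hd, by ring, by ring, by linear_combination -hd⟩

theorem sq_eq_one_of_tr {Y : S2} (h : tr Y = 0) : π2 Y * π2 Y = 1 := by
  obtain ⟨a, b, c, d⟩ := mul_self_entries Y
  rw [h] at a b c d
  rw [← QuotientGroup.mk_mul, mk_eq_one]
  exact Or.inr (ext2 (by rw [a]; simp [neg_entries]) (by rw [b]; simp [neg_entries])
    (by rw [c]; simp [neg_entries]) (by rw [d]; simp [neg_entries]))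

theorem tr_of_sq {Y : S2} (h : π2 Y * π2 Y = 1) :
    tr Y = 0 ∨ (Y.1 0 1 = 0 ∧ Y.1 1 0 = 0 ∧ Y.1 0 0 = Y.1 1 1) := by
  by_cases ht : tr Y = 0
  · exact Or.inl ht
  obtain ⟨a, b, c, d⟩ := mul_self_entries Y
  rw [← QuotientGroup.mk_mul, mk_eq_one] at h
  have key : (Y * Y).1 0 1 = 0 ∧ (Y * Y).1 1 0 = 0 ∧ (Y * Y).1 0 0 = (Y * Y).1 1 1 := by
    rcases h with e | e <;> rw [e] <;> simp [neg_entries]
  rw [a, b, c, d, mul_eq_zero, mul_eq_zero] at key
  exact Or.inr ⟨key.1.resolve_right ht, key.2.1.resolve_right ht,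
    mul_right_cancel₀ ht (sub_left_injective key.2.2)⟩

theorem tr_conj (Y X : S2) : tr (Y * X * Y⁻¹) = tr X := by
  obtain ⟨i0, i1, i2, i3⟩ := inv_entries Y
  have hd := det_eq Y
  unfold tr
  simp only [mul00, mul01, mul10, mul11, i0, i1, i2, i3]
  linear_combination (X.1 0 0 + X.1 1 1) * hd

theorem tr_inv (X : S2) : tr X⁻¹ = tr X := by
  obtain ⟨i0, -, -, i3⟩ := inv_entries X
  unfold tr; rw [i0, i3, add_comm]

theorem tr_neg (X : S2) : tr (-X) = -tr X := by
  unfold tr; rw [neg_entries, neg_entries, neg_add]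

theorem tr_ne_zero {X : S2} (hx : π2 X * π2 X ≠ 1) : tr X ≠ 0 := fun h => hx (sq_eq_one_of_tr h)

/-- Conjugation to the element or to its inverse, in `SL₂`. -/
theorem conj_iff {X Y : S2} (hx : π2 X * π2 X ≠ 1) :
    (π2 Y * π2 X * (π2 Y)⁻¹ = π2 X ∨ π2 Y * π2 X * (π2 Y)⁻¹ = (π2 X)⁻¹) ↔
      (Y * X = X * Y ∨ Y * X = X⁻¹ * Y) := by
  have ht := tr_ne_zero hx
  have h2 : ∀ Z : S2, tr Z = tr X → Y * X * Y⁻¹ = -Z → Y * X * Y⁻¹ = Z := fun Z hZ e => by
    have := congrArg tr e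
    rw [tr_conj, tr_neg, hZ] at this
    have h20 : (2 : F) = 0 := by
      rcases mul_eq_zero.1 (show (2 : F) * tr X = 0 by linear_combination this) with h | h
      · exact h
      · exact absurd h ht
    rw [e]
    refine ext2 ?_ ?_ ?_ ?_ <;> rw [neg_entries]
    · linear_combination (-(Z.1 0 0)) * h20
    · linear_combination (-(Z.1 0 1)) * h20
    · linear_combination (-(Z.1 1 0)) * h20
    · linear_combination (-(Z.1 1 1)) * h20
  rw [← QuotientGroup.mk_inv, ← QuotientGroup.mk_inv, ← QuotientGroup.mk_mul,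
    ← QuotientGroup.mk_mul, mk_eq, mk_eq]
  refine or_congr ⟨fun h => ?_, fun h => Or.inl (by rw [h, mul_inv_cancel_right])⟩
    ⟨fun h => ?_, fun h => Or.inl (by rw [h, mul_inv_cancel_right])⟩
  · exact mul_inv_eq_iff_eq_mul.1 (h.elim id (h2 X rfl))
  · exact mul_inv_eq_iff_eq_mul.1 (h.elim id (h2 X⁻¹ (tr_inv X)))

variable (p : ℕ) [hp : Fact p.Prime] [CharP F p] {r : ℕ} (hr : r.Prime)
  (hp23 : p = 2 ∨ (p = 3 ∧ r ≠ 2)) (hF : Fintype.card F = p ^ r)
include hr hp23 hF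

/-- The pairs in the solubilizer of a semisimple element. -/
theorem sol_semisimple {X Y : S2} (hx : π2 X * π2 X ≠ 1) (h24 : π2 X ^ 24 ≠ 1 ∨ p ≠ 3) :
    Sol (π2 X) (π2 Y) ↔ HasLine X Y ∨ Y * X = X * Y ∨ Y * X = X⁻¹ * Y := by
  rw [← conj_iff hx]
  constructor
  · intro h
    rcases pair_cases p hr hp23 hF h with h | h | ⟨h3, h1, -⟩
    · exact Or.inl h
    · exact Or.inr (h.2 hx)
    · rcases h24 with h' | h'
      · exact absurd h1 h'
      · exact absurd h3 h'
  · rintro (⟨v, hv, hXv, b, hYv⟩ | h)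
    · obtain ⟨a, ha⟩ := hXv
      obtain ⟨e0, e1⟩ := eigen_entries ha
      obtain ⟨f0, f1⟩ := eigen_entries hYv
      obtain ⟨P, hP⟩ : ∃ P : S2, (P * X * P⁻¹).1 1 0 = 0 ∧ (P * Y * P⁻¹).1 1 0 = 0 := by
        obtain ⟨P, hr1, hr2⟩ : ∃ P : S2, P.1 1 0 * v 0 + P.1 1 1 * v 1 = 0 ∧
            (P⁻¹.1 0 0 = v 0 ∧ P⁻¹.1 1 0 = v 1) := exists_frame hv
        refine ⟨P, ?_, ?_⟩ <;> rw [mul10, mul10, mul11, hr2.1, hr2.2]
        · linear_combination P.1 1 0 * e0 + P.1 1 1 * e1 + a * hr1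
        · linear_combination P.1 1 0 * f0 + P.1 1 1 * f1 + b * hr1
      have hs := solvable_upper hP.1 hP.2
      unfold Sol at hs ⊢
      haveI := hs
      have e : (Subgroup.closure ({π2 X, π2 Y} : Set G2)).map
          (MulAut.conj (π2 P)).toMonoidHom =
          Subgroup.closure {π2 (P * X * P⁻¹), π2 (P * Y * P⁻¹)} := by
        rw [MonoidHom.map_closure]; simp [Set.image_pair]
      let e' := (Subgroup.equivMapOfInjective (Subgroup.closure ({π2 X, π2 Y} : Set G2))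
        (MulAut.conj (π2 P)).toMonoidHom (MulAut.conj (π2 P)).injective).trans
          (MulEquiv.subgroupCongr e)
      exact Group.isSolvable_of_surjective (f := e'.symm.toMonoidHom) e'.symm.surjective
    · exact solvable_of_conj h

/-- The solubilizer of a non-split semisimple element. -/
theorem ncard_sol_nonsplit {X : S2} (hne : ¬ HasEigen X) (hx : π2 X * π2 X ≠ 1)
    (h24 : π2 X ^ 24 ≠ 1 ∨ p ≠ 3) :
    {Y : S2 | Sol (π2 X) (π2 Y)}.ncard = 2 * (Fintype.card F + 1) := by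
  have e : {Y : S2 | Sol (π2 X) (π2 Y)} = {Y | Y * X = X * Y} ∪ {Y | Y * X = X⁻¹ * Y} := by
    ext Y
    simp only [Set.mem_ofPred_eq, Set.mem_union, sol_semisimple p hr hp23 hF hx h24]
    refine ⟨fun h => h.resolve_left fun ⟨v, hv, ha, _⟩ => hne ⟨v, hv, ha⟩, Or.inr⟩
  rw [e, Set.ncard_union_eq ?_, ncard_commute hne, ncard_invert hne, two_mul]
  refine Set.disjoint_left.2 fun Y (h1 : Y * X = X * Y) (h2 : Y * X = X⁻¹ * Y) => hx ?_
  rw [← QuotientGroup.mk_mul, show X * X = 1 by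
    conv_lhs => lhs; rw [mul_right_cancel (h1.symm.trans h2)]
    exact inv_mul_cancel X, QuotientGroup.mk_one]

/-- The solubilizer of a split semisimple element. -/
theorem ncard_sol_split {X : S2} (h10 : X.1 1 0 = 0) (h01 : X.1 0 1 = 0)
    (hne : X.1 0 0 ≠ X.1 1 1) (hx : π2 X * π2 X ≠ 1) (h24 : π2 X ^ 24 ≠ 1 ∨ p ≠ 3) :
    {Y : S2 | Sol (π2 X) (π2 Y)}.ncard = 2 * Fintype.card F * (Fintype.card F - 1) := by
  obtain ⟨i0, i1, i2, i3⟩ := inv_entries X
  have hsub : X.1 0 0 - X.1 1 1 ≠ 0 := sub_ne_zero.2 hne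
  have e : {Y : S2 | Sol (π2 X) (π2 Y)} =
      ({Y | Y.1 1 0 = 0} ∪ {Y | Y.1 0 1 = 0}) ∪ {Y | Y.1 0 0 = 0 ∧ Y.1 1 1 = 0} := by
    ext Y
    simp only [Set.mem_ofPred_eq, Set.mem_union, sol_semisimple p hr hp23 hF hx h24]
    constructor
    · rintro (⟨v, hv, ⟨a, ha⟩, b, hb⟩ | h | h)
      · obtain ⟨e0, e1⟩ := eigen_entries ha
        obtain ⟨f0, f1⟩ := eigen_entries hb
        rw [h01] at e0; rw [h10] at e1
        by_cases h0 : v 0 = 0
        · have h1 : v 1 ≠ 0 := fun e => hv (funext fun i => by fin_cases i <;> assumption)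
          refine Or.inl (Or.inr ((mul_eq_zero.1 (?_ : Y.1 0 1 * v 1 = 0)).resolve_right h1))
          rw [h0] at f0; linear_combination f0
        · have ha' : a = X.1 0 0 := mul_right_cancel₀ h0 (by linear_combination -e0)
          have h1 : v 1 = 0 := (mul_eq_zero.1 (show (X.1 0 0 - X.1 1 1) * v 1 = 0 by
            rw [ha'] at e1; linear_combination -e1)).resolve_left hsub
          refine Or.inl (Or.inl ((mul_eq_zero.1 (?_ : Y.1 1 0 * v 0 = 0)).resolve_right h0))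
          rw [h1] at f1; linear_combination f1
      · have k := congrArg (fun Z : S2 => Z.1 1 0) h
        simp only [mul10, h10] at k
        exact Or.inl (Or.inl ((mul_eq_zero.1
          (show (X.1 0 0 - X.1 1 1) * Y.1 1 0 = 0 by linear_combination k)).resolve_left hsub))
      · have k := congrArg (fun Z : S2 => Z.1 0 0) h
        have k' := congrArg (fun Z : S2 => Z.1 1 1) h
        simp only [mul00, mul11, h10, h01, i0, i1, i2, i3] at k k'
        exact Or.inr ⟨(mul_eq_zero.1 (show (X.1 0 0 - X.1 1 1) * Y.1 0 0 = 0 by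
            linear_combination k)).resolve_left hsub,
          (mul_eq_zero.1 (show (X.1 0 0 - X.1 1 1) * Y.1 1 1 = 0 by
            linear_combination -k')).resolve_left hsub⟩
    · rintro ((h | h) | ⟨h0, h1⟩)
      · exact Or.inl ⟨![1, 0], fun e => one_ne_zero (congrFun e 0), ⟨X.1 0 0, funext fun i => by
            fin_cases i <;> simp [Matrix.mulVec, dotProduct, Fin.sum_univ_two, h10]⟩,
          Y.1 0 0, funext fun i => by
            fin_cases i <;> simp [Matrix.mulVec, dotProduct, Fin.sum_univ_two, h]⟩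
      · exact Or.inl ⟨![0, 1], fun e => one_ne_zero (congrFun e 1), ⟨X.1 1 1, funext fun i => by
            fin_cases i <;> simp [Matrix.mulVec, dotProduct, Fin.sum_univ_two, h01]⟩,
          Y.1 1 1, funext fun i => by
            fin_cases i <;> simp [Matrix.mulVec, dotProduct, Fin.sum_univ_two, h]⟩
      · refine Or.inr (Or.inr (ext2 ?_ ?_ ?_ ?_)) <;>
          simp only [mul00, mul01, mul10, mul11, h10, h01, i0, i1, i2, i3, h0, h1] <;> ring
  have h3 : Disjoint ({Y : S2 | Y.1 1 0 = 0} ∪ {Y | Y.1 0 1 = 0})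
      {Y | Y.1 0 0 = 0 ∧ Y.1 1 1 = 0} := by
    refine Set.disjoint_left.2 fun Y h ⟨h0, h1⟩ => ?_
    have hd := det_eq Y
    rw [h0, h1] at hd
    rcases h with (h : Y.1 1 0 = 0) | (h : Y.1 0 1 = 0) <;> rw [h] at hd <;> simp at hd
  have hi : ({Y : S2 | Y.1 1 0 = 0} ∩ {Y | Y.1 0 1 = 0}) = {Y | Y.1 1 0 = 0 ∧ Y.1 0 1 = 0} := rfl
  rw [e, Set.ncard_union_eq h3]
  have := Set.ncard_union_add_ncard_inter ({Y : S2 | Y.1 1 0 = 0}) {Y : S2 | Y.1 0 1 = 0}
  rw [hi, ncard_upper, ncard_lower, ncard_diag] at this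
  rw [ncard_antidiag]
  obtain ⟨n, hn⟩ : ∃ n, Fintype.card F = n + 1 :=
    ⟨Fintype.card F - 1, by have := Fintype.card_pos (α := F); omega⟩
  rw [hn, Nat.add_sub_cancel] at this ⊢
  nlinarith

end CfsgLib.Known.Solub
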