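import Cfsg.Agent.Lib.Known.Solub.Torus

/-!
# Solubilizers in `PSL₂(2^p)`
-/

set_option autoImplicit false
set_option linter.style.haveILetI false
set_option linter.unusedSectionVars false

namespace CfsgLib.Known.Solub

open Matrix CfsgLib.Classical.Dickson
open scoped MatrixGroups

variable {F : Type*} [Field F] [Fintype F] [CharP F 2] {r : ℕ} (hr : r.Prime)
  (hF : Fintype.card F = 2 ^ r)
include hr hF

local notation "G2" => ProjectiveSpecialLinearGroup (Fin 2) F
local notation "S2" => SpecialLinearGroup (Fin 2) F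
local notation "π2" => QuotientGroup.mk (s := Subgroup.center (SpecialLinearGroup (Fin 2) F))

theorem gcd_one : Nat.gcd 2 (Fintype.card F - 1) = 1 := by
  refine (Nat.prime_two.coprime_iff_not_dvd).2 ?_
  rw [hF]
  have : 2 ∣ 2 ^ r := dvd_pow_self 2 hr.pos.ne'
  have := Nat.two_pow_pos r
  omega

theorem sol_involution {X : S2} (h10 : X.1 1 0 = 0) (h00 : X.1 0 0 = 1) (h11 : X.1 1 1 = 1)
    (he : X.1 0 1 ≠ 0) :
    {Y : S2 | Sol (π2 X) (π2 Y)}.ncard =
      3 * Fintype.card F * (Fintype.card F - 1) := by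
  set e := X.1 0 1 with hedef
  have htX : tr X = 0 := by unfold tr; rw [h00, h11, CharTwo.add_self_eq_zero]
  have hxx : π2 X * π2 X = 1 := sq_eq_one_of_tr htX
  have hXY : ∀ Y : S2, (X * Y).1 1 0 = Y.1 1 0 ∧ tr (X * Y) = tr Y + e * Y.1 1 0 := fun Y => by
    unfold tr
    rw [mul10, mul00, mul11, h10, h00, h11, ← hedef]
    exact ⟨by ring, by ring⟩
  have eq : {Y : S2 | Sol (π2 X) (π2 Y)} = {Y | Y.1 1 0 = 0} ∪
      ({Y | Y.1 1 0 ≠ 0 ∧ tr Y = 0} ∪ {Y | Y.1 1 0 ≠ 0 ∧ tr Y = -e * Y.1 1 0}) := by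
    ext Y
    simp only [Set.mem_ofPred_eq, Set.mem_union]
    by_cases hc : Y.1 1 0 = 0
    · exact ⟨fun _ => Or.inl hc, fun _ => solvable_upper h10 hc⟩
    simp only [hc, false_or, ne_eq, not_false_iff, true_and]
    constructor
    · intro h
      rcases pair_cases 2 hr (Or.inl rfl) hF h with ⟨v, hv, ⟨a, ha⟩, b, hb⟩ | h | ⟨h3, -⟩
      · exfalso
        obtain ⟨e0, e1⟩ := eigen_entries ha
        obtain ⟨-, f1⟩ := eigen_entries hb
        rw [h00, ← hedef] at e0
        rw [h10, h11] at e1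
        by_cases h1 : v 1 = 0
        · have h0 : v 0 ≠ 0 := fun e => hv (funext fun i => by fin_cases i <;> assumption)
          rw [h1] at f1
          exact hc ((mul_eq_zero.1 (show Y.1 1 0 * v 0 = 0 by linear_combination f1)).resolve_right h0)
        · have : a = 1 := mul_right_cancel₀ h1 (by linear_combination -e1)
          subst this
          exact h1 ((mul_eq_zero.1 (show e * v 1 = 0 by linear_combination e0)).resolve_left he)
      · rcases h.1 hxx with h | h | h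
        · exact Or.inl ((tr_of_sq h).resolve_right fun k => hc k.2.1)
        · rw [← QuotientGroup.mk_mul] at h
          refine Or.inr ?_
          have := (tr_of_sq h).resolve_right fun k => hc ((hXY Y).1 ▸ k.2.1)
          rw [(hXY Y).2] at this
          linear_combination this
        · exfalso
          have h' : π2 (X * Y) = π2 (Y * X) := h
          rw [mk_eq] at h'
          have k := h'.elim id fun k => k.trans (by
            refine ext2 ?_ ?_ ?_ ?_ <;> rw [neg_entries, CharTwo.neg_eq])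
          have k' := congrArg (fun Z : S2 => Z.1 0 0) k
          simp only [mul00, h00, h10, ← hedef] at k'
          exact hc ((mul_eq_zero.1 (show e * Y.1 1 0 = 0 by linear_combination k')).resolve_left he)
      · omega
    · rintro (h | h)
      · exact solvable_of_flip hxx (Or.inl (sq_eq_one_of_tr h))
      · refine solvable_of_flip hxx (Or.inr (Or.inl ?_))
        rw [← QuotientGroup.mk_mul]
        refine sq_eq_one_of_tr ?_
        rw [(hXY Y).2, h, neg_mul, neg_add_cancel]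
  rw [eq, Set.ncard_union_eq, Set.ncard_union_eq, ncard_upper,
    ncard_trace_line (fun _ => (0 : F)), ncard_trace_line (fun c => -e * c)]
  · ring
  · refine Set.disjoint_left.2 fun Y ⟨hc, h1⟩ ⟨_, h2⟩ => ?_
    rw [h1, eq_comm, neg_mul, neg_eq_zero, mul_eq_zero] at h2
    exact hc (h2.resolve_left he)
  · exact Set.disjoint_left.2 fun Y h h' => h'.elim (fun k => k.1 h) fun k => k.1 h

/-- The three counts. -/
theorem card_sol_two (x : G2) :
    (orderOf x = 2 → Nat.card {y : G2 // Sol x y} = 3 * 2 ^ r * (2 ^ r - 1)) ∧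
    (x ≠ 1 → orderOf x ∣ 2 ^ r - 1 → Nat.card {y : G2 // Sol x y} = 2 * 2 ^ r * (2 ^ r - 1)) ∧
    (x ≠ 1 → orderOf x ∣ 2 ^ r + 1 → Nat.card {y : G2 // Sol x y} = 2 * (2 ^ r + 1)) := by
  obtain ⟨g, X, hgX, hcase⟩ := normal_form 2 x
  have hcount : Nat.card {y : G2 // Sol x y} = {Y : S2 | Sol (π2 X) (π2 Y)}.ncard := by
    rw [← card_sol_conj g x, hgX, ← Nat.card_coe_set_eq]
    have := card_fibres (F := F) rfl (fun y => Sol (π2 X) y)
    rw [gcd_one hr hF, one_mul] at this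
    exact this.symm
  have hX1 : ∀ n, π2 X ^ n = 1 ↔ x ^ n = 1 := fun n => by
    rw [← hgX, conj_pow, conj_eq_one_iff]
  have hq : 2 ∣ 2 ^ r := dvd_pow_self 2 hr.pos.ne'
  have hq1 : 1 ≤ 2 ^ r := Nat.one_le_two_pow
  have hcop : ∀ {a b : ℕ}, orderOf x ∣ a → orderOf x ∣ b → Nat.gcd a b = 1 → x = 1 :=
    fun ha hb h => orderOf_eq_one_iff.1 (Nat.dvd_one.1 (h ▸ Nat.dvd_gcd ha hb))
  have g2m : Nat.gcd 2 (2 ^ r - 1) = 1 := (Nat.prime_two.coprime_iff_not_dvd).2 (by omega)
  have g2p : Nat.gcd 2 (2 ^ r + 1) = 1 := (Nat.prime_two.coprime_iff_not_dvd).2 (by omega)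
  have gmp : Nat.gcd (2 ^ r - 1) (2 ^ r + 1) = 1 := by
    have h1 : Nat.gcd (2 ^ r - 1) (2 ^ r + 1) ∣ 2 := by
      have := Nat.dvd_sub (Nat.gcd_dvd_right (2 ^ r - 1) (2 ^ r + 1))
        (Nat.gcd_dvd_left (2 ^ r - 1) (2 ^ r + 1))
      rwa [show 2 ^ r + 1 - (2 ^ r - 1) = 2 by omega] at this
    rcases (Nat.dvd_prime Nat.prime_two).1 h1 with e | e
    · exact e
    · have := Nat.gcd_dvd_left (2 ^ r - 1) (2 ^ r + 1)
      rw [e] at this
      omega
  have hxx : ∀ {a : ℕ}, x ≠ 1 → orderOf x ∣ a → Nat.gcd 2 a = 1 → π2 X * π2 X ≠ 1 :=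
    fun h1 hd hg h => h1 (hcop (orderOf_dvd_of_pow_eq_one ((hX1 2).1 (by rw [sq]; exact h))) hd hg)
  rw [hF] at hcase
  refine ⟨fun h2 => ?_, fun h1 hd => ?_, fun h1 hd => ?_⟩
  · have hx1 : x ≠ 1 := fun e => by rw [e, orderOf_one] at h2; omega
    rcases hcase with ⟨h10, he, -⟩ | ⟨-, -, -, hp⟩ | ⟨-, hp⟩
    · have hd := det_eq X
      rw [h10, he, mul_zero, sub_zero, ← sq, sq_eq_one_iff, CharTwo.neg_eq, or_self] at hd
      rw [hcount, sol_involution hr hF h10 hd (he.trans hd) ?_, hF]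
      intro h01
      refine hx1 (pow_one x ▸ (hX1 1).1 ?_)
      rw [pow_one, mk_eq_one]
      exact Or.inl (ext2 (by simp [hd]) (by simp [h01]) (by simp [h10]) (by simp [he, hd]))
    · exact absurd (hcop (dvd_of_eq h2) (orderOf_dvd_of_pow_eq_one hp) g2m) hx1
    · exact absurd (hcop (dvd_of_eq h2) (orderOf_dvd_of_pow_eq_one hp) g2p) hx1
  · rcases hcase with ⟨-, -, hp⟩ | ⟨h10, h01, hne, -⟩ | ⟨-, hp⟩
    · exact absurd (hcop (orderOf_dvd_of_pow_eq_one hp) hd g2m) h1
    · rw [hcount, ncard_sol_split 2 hr (Or.inl rfl) hF h10 h01 hne (hxx h1 hd g2m)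
        (Or.inr (by norm_num)), hF]
    · exact absurd (hcop hd (orderOf_dvd_of_pow_eq_one hp) gmp) h1
  · rcases hcase with ⟨-, -, hp⟩ | ⟨-, -, -, hp⟩ | ⟨hne, -⟩
    · exact absurd (hcop (orderOf_dvd_of_pow_eq_one hp) hd g2p) h1
    · exact absurd (hcop (orderOf_dvd_of_pow_eq_one hp) hd gmp) h1
    · rw [hcount, ncard_sol_nonsplit 2 hr (Or.inl rfl) hF hne (hxx h1 hd g2p)
        (Or.inr (by norm_num)), hF]

end CfsgLib.Known.Solub
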